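import Cfsg.Agent.Lib.KnownA.SuzSchur.Base
import Cfsg.Agent.Lib.StructB.StemOfCentral

/-!
A stem extension of the presented Suzuki group with kernel of order divisible by 6.
-/

set_option autoImplicit false
set_option maxRecDepth 100000

namespace CfsgLib.KnownA.SchurCert.SuzCert

open Cfsg Cfsg.Spor CfsgLib.KnownA.SchurCert
open scoped commutatorElement

local notation "MM" => Matrix (Fin 12) (Fin 12) (ZMod 7)

local instance : Fact (Nat.Prime 7) := ⟨by norm_num⟩

theorem commChk_spec {k : ℕ} {a b : List ℕ} (h : commChk k a b = true) :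
    (∀ x ∈ a, x < 7) ∧ (∀ x ∈ b, x < 7) ∧
      matWord baseSuz (a ++ b) = (k : ZMod 7) • matWord baseSuz (b ++ a) := by
  simp only [commChk, Bool.and_eq_true, List.all_eq_true, List.mem_range] at h
  obtain ⟨⟨ha, hb⟩, h⟩ := h
  have hs : ∀ R ∈ baseSuz, smallR R = true := by
    have hb := base_ok
    simp only [baseChk, Bool.and_eq_true, List.all_eq_true] at hb
    exact hb.1.1.1.2
  refine ⟨fun x hx => Nat.le_of_ble_eq_true (ha x hx), fun x hx => Nat.le_of_ble_eq_true (hb x hx), ?_⟩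
  funext i
  have hi := h i.val i.2
  rw [sameS_iff, decS_vecWS hs, decS_vecWS hs] at hi
  have row : ∀ (M : MM), Matrix.vecMul (decS (2 ^ (16 * i.val))) M = M i := fun M => by
    funext j
    simp [Matrix.vecMul, dotProduct, decS_unit, ite_mul]
  rw [row, row] at hi
  exact hi

/-- A stem extension with kernel of order divisible by six. -/
theorem exists_stem_six : ∃ (Γ : Type) (_ : Group Γ) (_ : Finite Γ) (τ : Γ →* Suz),
    Cfsg.IsStemExtension τ ∧ 6 ∣ Nat.card τ.ker := by
  obtain ⟨ψ, hinj, hψ⟩ := exists_proj base_ok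
  have hu := unit_word base_ok
  haveI : Finite Suz := CfsgLib.InvChar.SporSuz.card_le.1
  let E : Subgroup (GL (Fin 12) (ZMod 7) × Suz) :=
    ((Matrix.ProjGenLinGroup.mk).comp (MonoidHom.fst _ _)).eqLocus (ψ.comp (MonoidHom.snd _ _))
  let π : E →* Suz := (MonoidHom.snd _ _).comp E.subtype
  have hsurj : Function.Surjective π := fun x => by
    obtain ⟨g, hg⟩ := Matrix.ProjGenLinGroup.mk_surjective (ψ x)
    exact ⟨⟨(g, x), hg⟩, rfl⟩
  have hcen : π.ker ≤ Subgroup.center E := by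
    intro e he
    rw [MonoidHom.mem_ker] at he
    have h1 : (e : GL (Fin 12) (ZMod 7) × Suz).1 ∈ Subgroup.center (GL (Fin 12) (ZMod 7)) := by
      rw [← Matrix.ProjGenLinGroup.mk_eq_one]
      have h2 : Matrix.ProjGenLinGroup.mk (e : GL (Fin 12) (ZMod 7) × Suz).1 = ψ (π e) := e.2
      rw [h2, he, map_one]
    rw [Subgroup.mem_center_iff]
    intro g
    refine Subtype.ext (Prod.ext (Subgroup.mem_center_iff.1 h1 _) ?_)
    show _ * π e = π e * _
    rw [he, one_mul, mul_one]
  have key : ∀ (k : ℕ) (a b : List ℕ), commChk k a b = true → (k : ZMod 7) ≠ 0 →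
      ∃ z : π.ker, (z : E) ∈ commutator E ∧
        ((((z : E) : GL (Fin 12) (ZMod 7) × Suz).1 : GL (Fin 12) (ZMod 7)) : MM) = (k : ZMod 7) • 1 := by
    intro k a b h hk
    obtain ⟨ha, hb, he⟩ := commChk_spec h
    let el : (w : List ℕ) → (∀ x ∈ w, x < 7) → E := fun w hw =>
      ⟨((hu w).unit, wprod CfsgLib.InvChar.SporSuz.gen w), by
        show Matrix.ProjGenLinGroup.mk (hu w).unit = ψ (wprod CfsgLib.InvChar.SporSuz.gen w)
        rw [hψ w hw, proj, dif_pos (hu w)]⟩
    have hmul : ∀ {w w'} (hw) (hw'), el w hw * el w' hw' =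
        el (w ++ w') (fun x hx => (List.mem_append.1 hx).elim (hw x) (hw' x)) := fun {w w'} hw hw' =>
      Subtype.ext (Prod.ext (Units.ext (matWord_append baseSuz w w').symm)
        (wprod_append _ w w').symm)
    have hc : π ⁅el a ha, el b hb⁆ = 1 := by
      rw [map_commutatorElement, commutatorElement_eq_one_iff_mul_comm, ← map_mul, ← map_mul, hmul ha hb, hmul hb ha]
      refine hinj ?_
      show ψ (wprod _ (a ++ b)) = ψ (wprod _ (b ++ a))
      rw [hψ _ (fun x hx => (List.mem_append.1 hx).elim (ha x) (hb x)),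
        hψ _ (fun x hx => (List.mem_append.1 hx).elim (hb x) (ha x)), he, proj_smul hk (hu _)]
    refine ⟨⟨⁅el a ha, el b hb⁆, hc⟩, ?_, ?_⟩
    · exact Subgroup.commutator_mem_commutator (Subgroup.mem_top _) (Subgroup.mem_top _)
    · show (((⁅el a ha, el b hb⁆ : E) : GL (Fin 12) (ZMod 7) × Suz).1 : MM) = _
      have e1 : ⁅el a ha, el b hb⁆ = (el a ha * el b hb) * (el b hb * el a ha)⁻¹ := by
        rw [commutatorElement_def, mul_inv_rev, mul_assoc (el a ha * el b hb)]
      rw [e1, hmul ha hb, hmul hb ha]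
      show ((hu (a ++ b)).unit * (hu (b ++ a)).unit⁻¹ : GL (Fin 12) (ZMod 7)).val = _
      rw [Units.val_mul, (hu (a ++ b)).unit_spec, he, Matrix.smul_mul]
      exact congrArg _ (hu (b ++ a)).mul_val_inv
  obtain ⟨z2, hz2, e2⟩ := key 6 _ _ comm_two (by decide)
  obtain ⟨z3, hz3, e3⟩ := key 2 _ _ comm_three (by decide)
  haveI : Finite E := inferInstance
  have hord : ∀ (z : π.ker) (c : ZMod 7) (n : ℕ) [Fact n.Prime],
      ((((z : E) : GL (Fin 12) (ZMod 7) × Suz).1 : GL (Fin 12) (ZMod 7)) : MM) = c • 1 →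
      c ^ n = 1 → c ≠ 1 → orderOf z = n := by
    intro z c n _ e hc hne
    refine orderOf_eq_prime (Subtype.ext (Subtype.ext (Prod.ext (Units.ext ?_) ?_))) fun h => hne ?_
    · show (((z : E) : GL (Fin 12) (ZMod 7) × Suz).1 ^ n : GL (Fin 12) (ZMod 7)).val = 1
      rw [Units.val_pow_eq_pow_val, e, smul_pow, one_pow, hc, one_smul]
    · show π (z : E) ^ n = 1
      rw [show π (z : E) = 1 from z.2, one_pow]
    · subst h
      have := congrFun (congrFun e 0) 0
      simpa using this.symm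
  have : Fact (Nat.Prime 2) := ⟨Nat.prime_two⟩
  have : Fact (Nat.Prime 3) := ⟨Nat.prime_three⟩
  obtain ⟨Γ, _, _, τ, hτ, ρ, hρ⟩ := CfsgLib.StructB.exists_stem_of_central π hsurj hcen
  obtain ⟨w2, hw2⟩ := hρ z2 hz2
  obtain ⟨w3, hw3⟩ := hρ z3 hz3
  refine ⟨Γ, inferInstance, inferInstance, τ, hτ, ?_⟩
  have d2 : 2 ∣ Nat.card τ.ker := by
    rw [← hord z2 _ 2 e2 (by decide) (by decide), ← hw2]
    exact (orderOf_map_dvd ρ w2).trans (orderOf_dvd_natCard w2)
  have d3 : 3 ∣ Nat.card τ.ker := by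
    rw [← hord z3 _ 3 e3 (by decide) (by decide), ← hw3]
    exact (orderOf_map_dvd ρ w3).trans (orderOf_dvd_natCard w3)
  exact Nat.Coprime.mul_dvd_of_dvd_of_dvd (by norm_num : Nat.Coprime 2 3) d2 d3

end CfsgLib.KnownA.SchurCert.SuzCert
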