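import Cfsg.Agent.Lib.KnownA.SchurCert
import Mathlib.Tactic.Ring
import Mathlib.Tactic.NormNum

/-!
Exponent vectors modulo 4 in lanes of two bits, added at once, and their reductions modulo 2.
-/

set_option autoImplicit false

namespace CfsgLib.KnownA.SchurCert

/-- The low bit of every lane. -/
def laneL : ℕ → ℕ
  | 0 => 0
  | n + 1 => 1 + 4 * laneL n

/-- Sum of two lane vectors modulo 4. -/
def addQ (L H a b : ℕ) : ℕ :=
  Nat.xor (Nat.land a L + Nat.land b L) (Nat.xor (Nat.land a H) (Nat.land b H))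

/-- Lanes modulo 4. -/
def quadOps (nt : ℕ) : Ops ℕ :=
  let L := laneL nt
  let H := 2 * L
  ⟨0, addQ L H, fun r => 4 ^ r, fun a b => Nat.beq (Nat.land a (L + H)) (Nat.land b (L + H))⟩

/-- The same lanes modulo 2. -/
def pairOps (nt : ℕ) : Ops ℕ :=
  let L := laneL nt
  ⟨0, Nat.xor, fun r => 4 ^ r, fun a b => Nat.beq (Nat.land a L) (Nat.land b L)⟩

theorem land_lane (n a k : ℕ) (hk : k < 4) :
    a &&& k * laneL (n + 1) = (a % 4 &&& k) + 4 * (a / 4 &&& k * laneL n) := by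
  have e : k * laneL (n + 1) = k + 4 * (k * laneL n) := by simp only [laneL]; ring
  have h1 : (a &&& k * laneL (n + 1)) % 4 = a % 4 &&& k := by
    show (a &&& k * laneL (n + 1)) % 2 ^ 2 = a % 2 ^ 2 &&& k
    rw [Nat.and_mod_two_pow, show k * laneL (n + 1) % 2 ^ 2 = k by omega]
  have h2 : (a &&& k * laneL (n + 1)) / 4 = a / 4 &&& k * laneL n := by
    show (a &&& k * laneL (n + 1)) / 2 ^ 2 = _
    rw [Nat.and_div_two_pow, show k * laneL (n + 1) / 2 ^ 2 = k * laneL n by omega]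
  omega

theorem addQ_four : ∀ a b : Fin 4, Nat.xor (Nat.land a.val 1 + Nat.land b.val 1)
    (Nat.xor (Nat.land a.val 2) (Nat.land b.val 2)) = (a.val + b.val) % 4 := by decide

theorem and_lt_two (a : ℕ) : a &&& 1 < 2 := Nat.and_lt_two_pow a (by norm_num : 1 < 2 ^ 1)

theorem addQ_succ (n a b : ℕ) :
    addQ (laneL (n + 1)) (2 * laneL (n + 1)) a b % 4 = (a % 4 + b % 4) % 4 ∧
    addQ (laneL (n + 1)) (2 * laneL (n + 1)) a b / 4 = addQ (laneL n) (2 * laneL n) (a / 4) (b / 4) := by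
  have l1 : ∀ a, a &&& laneL (n + 1) = (a % 4 &&& 1) + 4 * (a / 4 &&& laneL n) := fun a => by
    have := land_lane n a 1 (by norm_num)
    rwa [one_mul, one_mul] at this
  have l2 := fun a => land_lane n a 2 (by norm_num)
  have f := addQ_four ⟨a % 4, by omega⟩ ⟨b % 4, by omega⟩
  simp only [addQ, show ∀ x y : ℕ, Nat.land x y = x &&& y from fun _ _ => rfl,
    show ∀ x y : ℕ, Nat.xor x y = x ^^^ y from fun _ _ => rfl] at f ⊢
  have ha := and_lt_two (a % 4)
  have hb := and_lt_two (b % 4)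
  constructor
  · rw [show (4 : ℕ) = 2 ^ 2 from rfl, Nat.xor_mod_two_pow, Nat.xor_mod_two_pow]
    rw [l1 a, l1 b, l2 a, l2 b] at *
    have h2a : a % 4 &&& 2 ≤ 2 := Nat.and_le_right
    have h2b : b % 4 &&& 2 ≤ 2 := Nat.and_le_right
    rw [show (a % 4 &&& 1) + 4 * (a / 4 &&& laneL n) + ((b % 4 &&& 1) + 4 * (b / 4 &&& laneL n)) =
        (a % 4 &&& 1) + (b % 4 &&& 1) + 4 * ((a / 4 &&& laneL n) + (b / 4 &&& laneL n)) by ring]
    simp only [show (2 : ℕ) ^ 2 = 4 from rfl, Nat.add_mul_mod_self_left]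
    rw [Nat.mod_eq_of_lt (by omega : (a % 4 &&& 1) + (b % 4 &&& 1) < 4),
      Nat.mod_eq_of_lt (by omega : (a % 4 &&& 2) < 4), Nat.mod_eq_of_lt (by omega : (b % 4 &&& 2) < 4)]
    exact f
  · rw [show (4 : ℕ) = 2 ^ 2 from rfl, Nat.xor_div_two_pow, Nat.xor_div_two_pow]
    rw [l1 a, l1 b, l2 a, l2 b]
    have h2a : a % 4 &&& 2 ≤ 2 := Nat.and_le_right
    have h2b : b % 4 &&& 2 ≤ 2 := Nat.and_le_right
    simp only [show (2 : ℕ) ^ 2 = 4 from rfl]
    congr 1
    · omega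
    · congr 1 <;> omega

theorem lane_addQ : ∀ (n r a b : ℕ), r < n →
    addQ (laneL n) (2 * laneL n) a b / 4 ^ r % 4 = (a / 4 ^ r % 4 + b / 4 ^ r % 4) % 4
  | 0, r, _, _, h => absurd h (Nat.not_lt_zero r)
  | n + 1, 0, a, b, _ => by simpa using (addQ_succ n a b).1
  | n + 1, r + 1, a, b, h => by
    simp only [pow_succ', ← Nat.div_div_eq_div_mul]
    rw [(addQ_succ n a b).2]
    exact lane_addQ n r _ _ (by omega)

theorem lane_land : ∀ (n r a k : ℕ), r < n → k < 4 →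
    (a &&& k * laneL n) / 4 ^ r % 4 = a / 4 ^ r % 4 &&& k
  | 0, r, _, _, h, _ => absurd h (Nat.not_lt_zero r)
  | n + 1, 0, a, k, _, hk => by
    rw [land_lane n a k hk, pow_zero, Nat.div_one, Nat.div_one]
    have : a % 4 &&& k ≤ k := Nat.and_le_right
    omega
  | n + 1, r + 1, a, k, h, hk => by
    simp only [pow_succ', ← Nat.div_div_eq_div_mul]
    rw [land_lane n a k hk]
    have : a % 4 &&& k ≤ k := Nat.and_le_right
    rw [show ((a % 4 &&& k) + 4 * (a / 4 &&& k * laneL n)) / 4 = a / 4 &&& k * laneL n by omega]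
    exact lane_land n r _ k (by omega) hk

theorem lane_unit {K : Type*} [CommGroup K] (nt r : ℕ) (hr : r < nt) (τ : ℕ → K) (f : ℕ → ℕ) (h1 : f 1 = 1)
    (h0 : f 0 = 0) : ∏ i ∈ Finset.range nt, τ i ^ f (4 ^ r / 4 ^ i % 4) = τ r := by
  rw [Finset.prod_eq_single r]
  · simp [Nat.div_self (pow_pos (by norm_num : (0 : ℕ) < 4) r), h1]
  · intro i _ hi
    rcases Nat.lt_or_ge i r with hir | hir
    · rw [Nat.pow_div hir.le (by norm_num)]
      obtain ⟨k, hk⟩ : ∃ k, r - i = k + 1 := ⟨r - i - 1, by omega⟩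
      rw [hk, pow_succ, Nat.mul_mod_left, h0, pow_zero]
    · rw [Nat.div_eq_of_lt (Nat.pow_lt_pow_right (by norm_num) (by omega)), Nat.zero_mod, h0, pow_zero]
  · intro h'; exact absurd (Finset.mem_range.2 hr) h'

/-- Lanes evaluate homomorphically in exponent 4. -/
noncomputable def quadEv {K : Type*} [CommGroup K] (nt : ℕ) (τ : ℕ → K) (h : ∀ x : K, x ^ 4 = 1) :
    Ev (quadOps nt) nt τ where
  ev a := ∏ r ∈ Finset.range nt, τ r ^ (a / 4 ^ r % 4)
  ev_zero := by simp [quadOps]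
  ev_add a b := by
    rw [← Finset.prod_mul_distrib]
    refine Finset.prod_congr rfl fun r hr => ?_
    show τ r ^ (addQ (laneL nt) (2 * laneL nt) a b / 4 ^ r % 4) = _
    rw [lane_addQ nt r a b (Finset.mem_range.1 hr), ← pow_eq_pow_mod _ (h (τ r)), pow_add]
  ev_unit r hr := lane_unit nt r hr τ id rfl rfl
  ev_mem W h' a := prod_mem fun r hr => pow_mem (h' r (Finset.mem_range.1 hr)) _
  beq_eq a b hab := Finset.prod_congr rfl fun r hr => by
    have e := congrArg (fun z => z / 4 ^ r % 4) (Nat.eq_of_beq_eq_true hab)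
    simp only [show ∀ x y : ℕ, Nat.land x y = x &&& y from fun _ _ => rfl,
      show laneL nt + 2 * laneL nt = 3 * laneL nt by ring,
      lane_land nt r _ 3 (Finset.mem_range.1 hr) (by norm_num)] at e
    have h3 : ∀ x, x % 4 &&& 3 = x % 4 := fun x => by
      rw [show (3 : ℕ) = 2 ^ 2 - 1 from rfl, Nat.and_two_pow_sub_one_eq_mod]; omega
    rw [h3, h3] at e
    rw [e]

/-- Lanes evaluate homomorphically in exponent 2. -/
noncomputable def pairEv {K : Type*} [CommGroup K] (nt : ℕ) (τ : ℕ → K) (h : ∀ x : K, x ^ 2 = 1) :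
    Ev (pairOps nt) nt τ where
  ev a := ∏ r ∈ Finset.range nt, τ r ^ (a / 4 ^ r % 2)
  ev_zero := by simp [pairOps]
  ev_add a b := by
    rw [← Finset.prod_mul_distrib]
    refine Finset.prod_congr rfl fun r _ => ?_
    show τ r ^ ((a ^^^ b) / 4 ^ r % 2) = _
    rw [show 4 ^ r = 2 ^ (2 * r) by rw [pow_mul]; norm_num, Nat.xor_div_two_pow, ← pow_add,
      pow_eq_pow_mod (_ + _) (h (τ r))]
    congr 1
    have e := Nat.xor_mod_two_pow (a := a / 2 ^ (2 * r)) (b := b / 2 ^ (2 * r)) (n := 1)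
    rw [pow_one] at e
    rw [e]
    rcases Nat.mod_two_eq_zero_or_one (a / 2 ^ (2 * r)) with h1 | h1 <;>
      rcases Nat.mod_two_eq_zero_or_one (b / 2 ^ (2 * r)) with h2 | h2 <;> rw [h1, h2] <;> rfl
  ev_unit r hr := by
    show ∏ i ∈ Finset.range nt, τ i ^ (4 ^ r / 4 ^ i % 2) = τ r
    have := lane_unit nt r hr τ (fun x => x % 2) rfl rfl
    simpa [Nat.mod_mod_of_dvd _ (by norm_num : (2 : ℕ) ∣ 4)] using this
  ev_mem W h' a := prod_mem fun r hr => pow_mem (h' r (Finset.mem_range.1 hr)) _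
  beq_eq a b hab := Finset.prod_congr rfl fun r hr => by
    have e := congrArg (fun z => z / 4 ^ r % 4) (Nat.eq_of_beq_eq_true hab)
    simp only [show ∀ x y : ℕ, Nat.land x y = x &&& y from fun _ _ => rfl] at e
    rw [show a &&& laneL nt = a &&& 1 * laneL nt by rw [one_mul],
      show b &&& laneL nt = b &&& 1 * laneL nt by rw [one_mul],
      lane_land nt r _ 1 (Finset.mem_range.1 hr) (by norm_num),
      lane_land nt r _ 1 (Finset.mem_range.1 hr) (by norm_num), Nat.and_one_is_mod, Nat.and_one_is_mod,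
      Nat.mod_mod_of_dvd _ (by norm_num : (2 : ℕ) ∣ 4), Nat.mod_mod_of_dvd _ (by norm_num : (2 : ℕ) ∣ 4)] at e
    rw [e]

end CfsgLib.KnownA.SchurCert
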