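import Cfsg.Agent.Lib.KnownA.MathieuSchur
import Cfsg.Agent.Lib.KnownA.JankoThreeSchur.Lanes
import Cfsg.Agent.Lib.KnownA.SuzSchur.Dense

/-!
Fields of the tables for the Suzuki group.
-/

set_option autoImplicit false

namespace CfsgLib.KnownA.SchurCert.SuzCert

/-- Lanes of four bits, in fields of width 128. -/
def decN (i x : ℕ) : ℕ := field 128 i x

/-- Lanes of two bits, in fields of width 192. -/
def decQ (i x : ℕ) : ℕ := field 192 i x

end CfsgLib.KnownA.SchurCert.SuzCert
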