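import Cfsg.Agent.Lib.KnownA.Co3SchurDefs
import Cfsg.Agent.Lib.InvChar.SporSuzSimple
import Mathlib.LinearAlgebra.Matrix.GeneralLinearGroup.Projective
import Mathlib.FieldTheory.Finite.Basic

/-!
The kernel checks of `SchurCert` for the presented Suzuki group, with elements given by matrices of
degree 12 over the field with 7 elements up to scalars, in packed rows.
-/

set_option autoImplicit false
set_option maxRecDepth 100000
set_option maxHeartbeats 1000000

namespace CfsgLib.KnownA.SchurCert.SuzCert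

open Cfsg Cfsg.Spor CfsgLib.KnownA.SchurCert CfsgLib.KnownA.SchurCert.Co3Cert

local notation "MM" => Matrix (Fin 12) (Fin 12) (ZMod 7)

local instance : Fact (Nat.Prime 7) := ⟨by norm_num⟩

/-- The identity, packed. -/
def idS : List ℕ := (List.range 12).map fun j => 2 ^ (16 * j)

/-- A coordinate modulo 7. -/
def slot7 (j a : ℕ) : ℕ := field 16 j a % 7

/-- A row vector times a matrix given by its packed rows. -/
def vecMulS (v : ℕ) (R : List ℕ) : ℕ :=
  (List.range 12).foldr (fun j acc => slot7 j v * R.getD j 0 + acc) 0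

/-- A row vector times the matrices of a word. -/
def vecWS (Rs : List (List ℕ)) : ℕ → List ℕ → ℕ
  | v, [] => v
  | v, k :: w => vecWS Rs (vecMulS v (Rs.getD k idS)) w

/-- The rows are packed numbers below 7. -/
def smallR (R : List ℕ) : Bool :=
  (List.range 12).all fun j =>
    Nat.beq (R.getD j 0) (pack ((List.range 12).map fun i => slot7 i (R.getD j 0)))

/-- The vectors differ by the factor `k`. -/
def sameS (k a b : ℕ) : Bool :=
  (List.range 12).all fun j => Nat.beq (slot7 j a) (k * slot7 j b % 7)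

/-- The matrices of the words differ by a scalar. -/
def eqS (Rs : List (List ℕ)) (Rs' : List (List ℕ)) (w w' : List ℕ) : Bool :=
  (List.range' 1 6).any fun k => (List.range 12).all fun i =>
    sameS k (vecWS Rs (2 ^ (16 * i)) w) (vecWS Rs' (2 ^ (16 * i)) w')

/-- A test vector. -/
def testS : ℕ := pack [3, 1, 4, 1, 5, 2, 6, 5, 3, 5, 1, 2]

/-- Equality of words. -/
def eqvS (Rs : List (List ℕ)) (w w' : List ℕ) : Bool :=
  cond ((List.range' 1 6).any fun k => sameS k (vecWS Rs testS w) (vecWS Rs testS w')) (eqS Rs Rs w w') false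

/-- A packed vector. -/
def decS (a : ℕ) : Fin 12 → ZMod 7 := fun j => (field 16 j.val a : ℕ)

/-- A packed matrix. -/
def matR (R : List ℕ) : MM := fun i j => (field 16 j.val (R.getD i.val 0) : ℕ)

/-- The matrix of a word. -/
def matWord (Rs : List (List ℕ)) (w : List ℕ) : MM := (w.map fun k => matR (Rs.getD k idS)).prod

theorem slot7_cast (j a : ℕ) : ((slot7 j a : ℕ) : ZMod 7) = (field 16 j a : ℕ) := ZMod.natCast_mod _ _

theorem sum_fin12 {M : Type*} [AddCommMonoid M] (f : ℕ → M) :
    ∑ i : Fin 12, f i.val = ∑ i ∈ Finset.range 12, f i := Fin.sum_univ_eq_sum_range f 12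

theorem decS_vecMulS {R : List ℕ} (h : smallR R = true) (v : ℕ) :
    decS (vecMulS v R) = Matrix.vecMul (decS v) (matR R) := by
  funext p
  simp only [smallR, List.all_eq_true, List.mem_range] at h
  have hf : vecMulS v R = ∑ j ∈ Finset.range 12, slot7 j v * R.getD j 0 := by
    have g : ∀ (f : ℕ → ℕ) (l : List ℕ), l.foldr (fun j acc => f j + acc) 0 = (l.map f).sum := fun f l => by
      induction l with
      | nil => rfl
      | cons a l ih => simp [ih]
    rw [vecMulS, g, ← List.sum_toFinset _ List.nodup_range, List.toFinset_range]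
  have e : vecMulS v R =
      pack ((List.range 12).map fun i => ∑ j ∈ Finset.range 12, slot7 j v * slot7 i (R.getD j 0)) := by
    rw [pack_map, hf, Finset.sum_congr rfl fun j hj => by
      rw [Nat.eq_of_beq_eq_true (h j (Finset.mem_range.1 hj)), pack_map, Finset.mul_sum], Finset.sum_comm]
    refine Finset.sum_congr rfl fun i _ => ?_
    rw [Finset.sum_mul]
    exact Finset.sum_congr rfl fun j _ => (mul_assoc _ _ _).symm
  show ((field 16 p.val (vecMulS v R) : ℕ) : ZMod 7) = _
  rw [e, field_pack _ _ ?_]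
  · rw [List.getD_eq_getElem _ _ (by simp), List.getElem_map, List.getElem_range, Nat.cast_sum,
      ← sum_fin12 fun j => ((slot7 j v * slot7 p.val (R.getD j 0) : ℕ) : ZMod 7)]
    simp only [Matrix.vecMul, dotProduct]
    exact Finset.sum_congr rfl fun q _ => by rw [Nat.cast_mul, slot7_cast, slot7_cast]; rfl
  · intro a ha
    obtain ⟨i, -, rfl⟩ := List.mem_map.1 ha
    have : ∑ j ∈ Finset.range 12, slot7 j v * slot7 i (R.getD j 0) ≤ ∑ j ∈ Finset.range 12, 7 * 7 :=
      Finset.sum_le_sum fun j _ => Nat.mul_le_mul (Nat.le_of_lt (Nat.mod_lt _ (by norm_num)))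
        (Nat.le_of_lt (Nat.mod_lt _ (by norm_num)))
    rw [Finset.sum_const, Finset.card_range, smul_eq_mul] at this
    omega

theorem smallR_idS : smallR idS = true := by decide +kernel

theorem matR_idS : matR idS = 1 := by decide +kernel

theorem decS_vecWS {Rs : List (List ℕ)} (hs : ∀ R ∈ Rs, smallR R = true) :
    ∀ (w : List ℕ) (v : ℕ), decS (vecWS Rs v w) = Matrix.vecMul (decS v) (matWord Rs w)
  | [], v => by simp [vecWS, matWord]
  | k :: w, v => by
    have hk : smallR (Rs.getD k idS) = true := by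
      rcases Nat.lt_or_ge k Rs.length with h | h
      · rw [List.getD_eq_getElem _ _ h]; exact hs _ (List.getElem_mem _)
      · rw [List.getD_eq_default _ _ h]; exact smallR_idS
    rw [vecWS, decS_vecWS hs w, decS_vecMulS hk, Matrix.vecMul_vecMul]
    simp only [matWord, List.map_cons, List.prod_cons]

theorem decS_unit : ∀ i j : Fin 12, decS (2 ^ (16 * i.val)) j = if j = i then 1 else 0 := by decide +kernel

theorem sameS_iff {k a b : ℕ} : sameS k a b = true ↔ decS a = (k : ZMod 7) • decS b := by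
  simp only [sameS, List.all_eq_true, List.mem_range]
  constructor
  · intro h
    funext j
    have := congrArg (fun n : ℕ => (n : ZMod 7)) (Nat.eq_of_beq_eq_true (h j.val j.2))
    simp only [slot7_cast, ZMod.natCast_mod, Nat.cast_mul] at this
    simp only [Pi.smul_apply, smul_eq_mul, decS]
    exact this
  · intro h j hj
    have h' := congrFun h ⟨j, hj⟩
    simp only [Pi.smul_apply, smul_eq_mul, decS] at h'
    rw [← slot7_cast j a, ← slot7_cast j b, ← Nat.cast_mul, ZMod.natCast_eq_natCast_iff'] at h'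
    have hlt : slot7 j a < 7 := Nat.mod_lt _ (by norm_num)
    rw [Nat.mod_eq_of_lt hlt] at h'
    rw [h']; exact Nat.beq_refl _

theorem scal_range {k : ℕ} (hk : k ∈ List.range' 1 6) : (k : ZMod 7) ≠ 0 := by
  rw [List.mem_range'_1] at hk
  rw [Ne, ZMod.natCast_eq_zero_iff]
  intro h
  have := Nat.le_of_dvd (by omega) h
  omega

theorem eqS_iff {Rs Rs' : List (List ℕ)} (hs : ∀ R ∈ Rs, smallR R = true)
    (hs' : ∀ R ∈ Rs', smallR R = true) {w w' : List ℕ} :
    eqS Rs Rs' w w' = true ↔ ∃ c : ZMod 7, c ≠ 0 ∧ matWord Rs w = c • matWord Rs' w' := by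
  simp only [eqS, List.any_eq_true, List.all_eq_true, List.mem_range, sameS_iff, decS_vecWS hs,
    decS_vecWS hs']
  have row : ∀ (M : MM) (i : Fin 12), Matrix.vecMul (decS (2 ^ (16 * i.val))) M = M i := fun M i => by
    funext j
    simp [Matrix.vecMul, dotProduct, decS_unit, ite_mul]
  constructor
  · rintro ⟨k, hk, h⟩
    refine ⟨k, scal_range hk, ?_⟩
    funext i
    have := h i.val i.2
    rwa [row, row] at this
  · rintro ⟨c, hc, h⟩
    refine ⟨c.val, ?_, fun i hi => ?_⟩
    · rw [List.mem_range'_1]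
      have := ZMod.val_lt c
      have : c.val ≠ 0 := fun h0 => hc ((ZMod.val_eq_zero c).1 h0)
      omega
    · rw [row _ ⟨i, hi⟩, row _ ⟨i, hi⟩, h, ZMod.natCast_zmod_val]; rfl

theorem matWord_append (Rs : List (List ℕ)) (w w' : List ℕ) :
    matWord Rs (w ++ w') = matWord Rs w * matWord Rs w' := by simp [matWord]

/-- The class of an invertible matrix. -/
noncomputable def proj (M : MM) : Matrix.ProjGenLinGroup (Fin 12) (ZMod 7) :=
  if h : IsUnit M then Matrix.ProjGenLinGroup.mk h.unit else 1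

theorem proj_mul {A B : MM} (hA : IsUnit A) (hB : IsUnit B) : proj (A * B) = proj A * proj B := by
  rw [proj, proj, proj, dif_pos hA, dif_pos hB, dif_pos (hA.mul hB), ← map_mul]
  exact congrArg _ (Units.ext rfl)

theorem isUnit_smul {c : ZMod 7} (hc : c ≠ 0) {A : MM} (hA : IsUnit A) : IsUnit (c • A) := by
  rw [Matrix.isUnit_iff_isUnit_det, Matrix.det_smul]
  exact ((Ne.isUnit hc).pow _).mul ((Matrix.isUnit_iff_isUnit_det A).1 hA)

theorem proj_smul {c : ZMod 7} (hc : c ≠ 0) {A : MM} (hA : IsUnit A) : proj (c • A) = proj A := by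
  rw [proj, proj, dif_pos hA, dif_pos (isUnit_smul hc hA)]
  refine (Matrix.ProjGenLinGroup.mk_eq_mk_iff.2 ⟨Units.mk0 c hc, Units.ext ?_⟩).symm
  simp [Matrix.GeneralLinearGroup.scalar, Matrix.smul_eq_diagonal_mul, Matrix.mul_diagonal, funext_iff,
    Matrix.ext_iff.symm, mul_comm]

theorem proj_eq {A B : MM} (hA : IsUnit A) (hB : IsUnit B) (h : proj A = proj B) :
    ∃ c : ZMod 7, c ≠ 0 ∧ A = c • B := by
  rw [proj, proj, dif_pos hA, dif_pos hB] at h
  obtain ⟨u, hu⟩ := Matrix.ProjGenLinGroup.mk_eq_mk_iff.1 h.symm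
  refine ⟨u, u.ne_zero, ?_⟩
  have := congrArg Units.val hu
  rw [← hA.unit_spec, ← hB.unit_spec, ← this]
  ext i j
  simp [Matrix.GeneralLinearGroup.scalar, Matrix.mul_diagonal, mul_comm]

theorem isUnit_of_sq {A : MM} {c : ZMod 7} (hc : c ≠ 0) (h : A * A = c • 1) : IsUnit A :=
  IsUnit.of_mul_eq_one (c⁻¹ • A) (by rw [Matrix.mul_smul, h, smul_smul, inv_mul_cancel₀ hc, one_smul])

/-- The checks on the matrices of the seven generators. -/
def baseChk (Bs : List (List ℕ)) : Bool :=
  Nat.beq Bs.length 7 && Bs.all smallR && !(eqS Bs Bs [0] []) &&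
    ((List.range 7).all fun x => eqS Bs Bs [x, x] []) &&
    CfsgLib.InvChar.Coset.SuzA.rels.all fun r => eqS Bs Bs r []

theorem unit_word {Bs : List (List ℕ)} (h : baseChk Bs = true) (w : List ℕ) :
    IsUnit (matWord Bs w) := by
  simp only [baseChk, Bool.and_eq_true, List.all_eq_true, List.mem_range] at h
  obtain ⟨⟨⟨⟨hlen, hs⟩, -⟩, hsq⟩, -⟩ := h
  induction w with
  | nil => simp [matWord]
  | cons x w ih =>
    rw [show x :: w = [x] ++ w from rfl, matWord_append]
    refine IsUnit.mul ?_ ih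
    rcases Nat.lt_or_ge x 7 with hx | hx
    · obtain ⟨c, hc, he⟩ := (eqS_iff hs hs).1 (hsq x hx)
      rw [show [x, x] = [x] ++ [x] from rfl, matWord_append] at he
      exact isUnit_of_sq hc (he.trans (by simp [matWord]))
    · simp only [matWord, List.map_cons, List.map_nil, List.prod_cons, List.prod_nil, mul_one]
      rw [List.getD_eq_default _ _ (by rw [Nat.eq_of_beq_eq_true hlen]; exact hx), matR_idS]
      exact isUnit_one

theorem exists_proj {Bs : List (List ℕ)} (h : baseChk Bs = true) :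
    ∃ ψ : Suz →* Matrix.ProjGenLinGroup (Fin 12) (ZMod 7), Function.Injective ψ ∧
      ∀ w : List ℕ, (∀ x ∈ w, x < 7) →
        ψ (wprod CfsgLib.InvChar.SporSuz.gen w) = proj (matWord Bs w) := by
  have hu := unit_word h
  simp only [baseChk, Bool.and_eq_true, List.all_eq_true, List.mem_range] at h
  obtain ⟨⟨⟨⟨hlen, hs⟩, hns⟩, hsq⟩, hrels⟩ := h
  rw [Bool.not_eq_true'] at hns
  let f : ℕ → Matrix.ProjGenLinGroup (Fin 12) (ZMod 7) := fun x => proj (matWord Bs [x])
  have hfw : ∀ w : List ℕ, (w.map f).prod = proj (matWord Bs w) := fun w => by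
    induction w with
    | nil =>
      rw [List.map_nil, List.prod_nil, matWord, List.map_nil, List.prod_nil, proj, dif_pos isUnit_one]
      exact (map_one Matrix.ProjGenLinGroup.mk).symm.trans (congrArg _ (Units.ext rfl))
    | cons x w ih =>
      rw [List.map_cons, List.prod_cons, ih, show x :: w = [x] ++ w from rfl, matWord_append,
        proj_mul (hu _) (hu _)]
  have hone : ∀ {w : List ℕ}, eqS Bs Bs w [] = true → proj (matWord Bs w) = 1 := fun {w} hw => by
    obtain ⟨c, hc, e⟩ := (eqS_iff hs hs).1 hw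
    rw [e, proj_smul hc (hu []), ← hfw]
    rfl
  have hf : ∀ x, f x * f x = 1 := fun x => by
    rcases Nat.lt_or_ge x 7 with hx | hx
    · show proj (matWord Bs [x]) * proj (matWord Bs [x]) = 1
      rw [← proj_mul (hu _) (hu _), ← matWord_append]
      exact hone (hsq x hx)
    · have e : matWord Bs [x] = matWord Bs [] := by
        simp only [matWord, List.map_cons, List.map_nil, List.prod_cons, List.prod_nil, mul_one]
        rw [List.getD_eq_default _ _ (by rw [Nat.eq_of_beq_eq_true hlen]; exact hx), matR_idS]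
      show proj (matWord Bs [x]) * proj (matWord Bs [x]) = 1
      rw [e, ← hfw]
      simp
  obtain ⟨ψ, hψ⟩ := CfsgLib.InvChar.SporSuz.pres.exists_hom f hf fun r hr =>
    (hfw r).trans (hone (hrels r hr))
  have hw' : ∀ w : List ℕ, (∀ x ∈ w, x < 7) →
      ψ (wprod CfsgLib.InvChar.SporSuz.gen w) = proj (matWord Bs w) := fun w hw => by
    rw [map_wprod, wprod, ← hfw]
    exact congrArg List.prod (List.map_congr_left fun x hx => hψ x (hw x hx))
  refine ⟨ψ, ?_, hw'⟩
  haveI := CfsgLib.InvChar.SporSuz.isSimpleGroup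
  rw [← MonoidHom.ker_eq_bot_iff]
  refine (ψ.normal_ker.eq_bot_or_eq_top).resolve_right fun htop => ?_
  have h0 : ψ (wprod CfsgLib.InvChar.SporSuz.gen [0]) = 1 := by
    rw [← MonoidHom.mem_ker, htop]; exact Subgroup.mem_top _
  rw [hw' _ (by simp)] at h0
  have hne : eqS Bs Bs [0] [] = true := (eqS_iff hs hs).2 (proj_eq (hu _) (hu []) (h0.trans (by
    rw [← hfw]; rfl)))
  exact absurd hne (by rw [hns]; simp)

/-- The checks on the letters. -/
def letChk (Bs : List (List ℕ)) (Ws Rs : List (List ℕ)) : Bool :=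
  baseChk Bs && Nat.beq Ws.length Rs.length && Rs.all smallR &&
    ((Ws.all fun w => w.all fun x => Nat.blt x 7)) &&
    (List.range Rs.length).all fun k => eqS Rs Bs [k] (Ws.getD k [])

theorem exists_gen {Bs Ws Rs : List (List ℕ)} (h : letChk Bs Ws Rs = true) :
    ∃ gen : ℕ → Suz, (∀ w w', eqvS Rs w w' = true → wprod gen w = wprod gen w') ∧
      ∀ w w', eqvS Rs w w' = false → wprod gen w ≠ wprod gen w' := by
  simp only [letChk, Bool.and_eq_true, List.all_eq_true, List.mem_range] at h
  obtain ⟨⟨⟨⟨hb, hlen⟩, hs⟩, hW⟩, hk⟩ := h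
  obtain ⟨ψ, hinj, hψ⟩ := exists_proj hb
  have hu := unit_word hb
  have hsB : ∀ R ∈ Bs, smallR R = true := by
    simp only [baseChk, Bool.and_eq_true, List.all_eq_true] at hb
    exact hb.1.1.1.2
  let gen : ℕ → Suz := fun k => wprod CfsgLib.InvChar.SporSuz.gen (Ws.getD k [])
  have key : ∀ w, IsUnit (matWord Rs w) ∧ ψ (wprod gen w) = proj (matWord Rs w) := by
    intro w
    induction w with
    | nil =>
      refine ⟨by simp [matWord], ?_⟩
      rw [wprod, List.map_nil, List.prod_nil, map_one, matWord, List.map_nil, List.prod_nil, proj,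
        dif_pos isUnit_one]
      exact (map_one Matrix.ProjGenLinGroup.mk).symm.trans (congrArg _ (Units.ext rfl))
    | cons k w ih =>
      have hk' : IsUnit (matWord Rs [k]) ∧ ψ (gen k) = proj (matWord Rs [k]) := by
        rcases Nat.lt_or_ge k Rs.length with hlt | hge
        · obtain ⟨c, hc, e⟩ := (eqS_iff hs hsB).1 (hk k hlt)
          rw [e, proj_smul hc (hu _)]
          refine ⟨isUnit_smul hc (hu _), hψ _ fun x hx => ?_⟩
          have hm : Ws.getD k [] ∈ Ws := by
            rw [List.getD_eq_getElem _ _ (by rw [Nat.eq_of_beq_eq_true hlen]; exact hlt)]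
            exact List.getElem_mem _
          exact Nat.le_of_ble_eq_true (hW _ hm x hx)
        · have e : matWord Rs [k] = matWord Bs [] := by
            simp only [matWord, List.map_cons, List.map_nil, List.prod_cons, List.prod_nil, mul_one]
            rw [List.getD_eq_default _ _ hge, matR_idS]
          refine ⟨e ▸ hu [], ?_⟩
          show ψ (wprod _ (Ws.getD k [])) = _
          rw [List.getD_eq_default _ _ (by rw [Nat.eq_of_beq_eq_true hlen]; exact hge), e,
            hψ [] (by simp)]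
      rw [show k :: w = [k] ++ w from rfl, matWord_append, wprod_append, map_mul, ih.2]
      refine ⟨hk'.1.mul ih.1, ?_⟩
      rw [proj_mul hk'.1 ih.1, ← hk'.2]
      simp [wprod]
  refine ⟨gen, fun w w' he => ?_, fun w w' he heq => ?_⟩
  · simp only [eqvS, cond_eq_ite] at he
    split_ifs at he
    obtain ⟨c, hc, e⟩ := (eqS_iff hs hs).1 he
    refine hinj ?_
    rw [(key w).2, (key w').2, e, proj_smul hc (key w').1]
  · have hp : proj (matWord Rs w) = proj (matWord Rs w') := by rw [← (key w).2, ← (key w').2, heq]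
    obtain ⟨c, hc, e⟩ := proj_eq (key w).1 (key w').1 hp
    have h1 : eqS Rs Rs w w' = true := (eqS_iff hs hs).2 ⟨c, hc, e⟩
    have h2 : ((List.range' 1 6).any fun k => sameS k (vecWS Rs testS w) (vecWS Rs testS w')) = true := by
      simp only [List.any_eq_true, sameS_iff, decS_vecWS hs]
      refine ⟨c.val, ?_, ?_⟩
      · rw [List.mem_range'_1]
        have := ZMod.val_lt c
        have : c.val ≠ 0 := fun h0 => hc ((ZMod.val_eq_zero c).1 h0)
        omega
      · rw [e, ZMod.natCast_zmod_val, Matrix.vecMul_smul]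
    rw [eqvS, h2] at he
    simp only [cond_true] at he
    rw [h1] at he
    exact Bool.noConfusion he

/-- All the checks. -/
def allS {V : Type} (o : Ops V) (C : Cert V) (extras : List ℕ) (Bs Ws Rs : List (List ℕ)) : Bool :=
  letChk Bs Ws Rs && C.presOK (eqvS Rs) && C.consOK (eqvS Rs) && C.finalOK o extras && C.edgesOK o &&
    C.injOK (eqvS Rs)

theorem ker_le {V : Type} (o : Ops V) (C : Cert V) (extras : List ℕ) (Bs Ws Rs : List (List ℕ))
    (hev : ∀ {K : Type} [CommGroup K] (τ : ℕ → K), (∀ x : K, x ^ C.p = 1) →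
      Nonempty (Ev o C.rels.length τ))
    (hcard : Nat.Coprime C.p (448345497600 / C.N)) (h : allS o C extras Bs Ws Rs = true)
    {Γ : Type} [Group Γ] [Finite Γ] {σ : Γ →* Suz} (hσ : Cfsg.IsStemExtension σ)
    (hexp : ∀ x ∈ σ.ker, x ^ C.p = 1) :
    ∃ τ : ℕ → Γ, ((∀ r, τ r ∈ σ.ker) ∧ ∀ r q comb, C.boundOK o r q comb = true → τ r ^ q = 1) ∧
      σ.ker ≤ Subgroup.closure (τ '' {r | r ∈ extras}) := by
  simp only [allS, Bool.and_eq_true] at h
  obtain ⟨⟨⟨⟨⟨hl, h1⟩, h4⟩, h5⟩, h2⟩, h3⟩ := h
  obtain ⟨gen, hsnd, hne⟩ := exists_gen hl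
  haveI : Finite Suz := CfsgLib.InvChar.SporSuz.card_le.1
  exact ker_le_of_cert (eqvS Rs) gen hsnd hne o C extras hev
    (CfsgLib.InvChar.SporSuz.card_eq.1 ▸ hcard) h1 h2 h3 h4 h5 hσ hexp

end CfsgLib.KnownA.SchurCert.SuzCert
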