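import Cfsg.Agent.Lib.KnownA.SchurCert

/-!
The last check of a certificate from a table of the values of its constraints.
-/

set_option autoImplicit false

namespace CfsgLib.KnownA.SchurCert

/-- The last check, with the values of the constraints given. -/
def finalL {V : Type} (o : Ops V) (C : Cert V) (L : List (V × V)) (extras : List ℕ) : Bool :=
  extras.all (fun r => Nat.blt r C.rels.length) &&
  (List.range C.rels.length).all fun r => C.defn.contains (some r) ||
    combOK o (L ++ extras.map fun r => (o.unit r, o.zero)) (C.final.getD r []) (o.unit r)

/-- The check on the order of a relator, with the values of the constraints given. -/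
def boundL {V : Type} (o : Ops V) (C : Cert V) (L : List (V × V)) (r q : ℕ) (comb : List (ℕ × ℕ)) : Bool :=
  Nat.blt r C.rels.length && combOK o L comb (smulV o q (o.unit r))

theorem finalOK_of_table {V : Type} {o : Ops V} {C : Cert V} {L : List (V × V)} {extras : List ℕ}
    (h : C.constraints o = L) (hf : finalL o C L extras = true) : C.finalOK o extras = true := by
  rw [finalL, ← h] at hf
  exact hf

theorem bounds_of_table {V : Type} {o : Ops V} {C : Cert V} {L : List (V × V)} {q : ℕ}
    {B : List (ℕ × List (ℕ × ℕ))} (h : C.constraints o = L)
    (hf : (B.all fun e => boundL o C L e.1 q e.2) = true) :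
    (B.all fun e => C.boundOK o e.1 q e.2) = true := by
  simp only [boundL, ← h] at hf
  exact hf

end CfsgLib.KnownA.SchurCert
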