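import Cfsg.Agent.Lib.KnownA.SuzSchur.Parts
import Cfsg.Agent.Lib.KnownA.SuzSchur.Dec
import Mathlib.Tactic.IntervalCases

/-!
The certificate for the prime 11 and the multiplier of the Suzuki group.
-/

set_option autoImplicit false
set_option maxRecDepth 100000
set_option Elab.async false

namespace CfsgLib.KnownA.SchurCert.SuzCert

open CfsgLib.KnownA.SchurCert CfsgLib.KnownA.SchurCert.Co3Cert

/-- Table. -/
def tblSuzP11T0 : Trie :=
  (.node (.node (.node (.node (.leaf 0x1 0x0 0x0 0x0)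
  (.leaf 0x9 0x0 0x0 0x0))
  (.node (.leaf 0x5 0x0 0x0 0x0)
  (.leaf 0 0 0 0)))
  (.node (.node (.leaf 0x3 0x0 0x0 0x0)
  (.leaf 0x0 0x1 0xa000000 0x1))
  (.node (.leaf 0x7 0x0 0x0 0x0)
  (.leaf 0 0 0 0))))
  (.node (.node (.node (.leaf 0x2 0x0 0x0 0x0)
  (.leaf 0xa 0x0 0x0 0x0))
  (.node (.leaf 0x6 0x0 0x0 0x0)
  (.leaf 0 0 0 0)))
  (.node (.node (.leaf 0x4 0x0 0x0 0x0)
  (.leaf 0 0 0 0))
  (.node (.leaf 0x8 0x0 0x0 0x0)
  (.leaf 0 0 0 0)))))

/-- Table. -/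
def tblSuzP11 : Trie :=
  tblSuzP11T0

/-- Certificate. -/
def certSuzP11 :=
  mkCert (decMod 1) 11 1 11 tblSuzP11
    [([0, 0, 0, 0, 0, 0, 0, 0, 0, 0, 0], [])]
    [none] [11] []
    [([(0, 0), (1, 10), (2, 9), (3, 8), (4, 7), (5, 6), (6, 5), (7, 4), (8, 3), (9, 2), (10, 1)], [(1, 1, 1), (2, 1, 1), (3, 1, 1), (4, 1, 1), (5, 1, 1), (6, 1, 1), (7, 1, 1), (8, 1, 1), (9, 1, 1), (10, 1, 1), (0, 0, 1)])]
    [[(0, 6)]]

/-- Words of the letters. -/
def wordsSuzP11 : List (List ℕ) :=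
  [[6, 5, 1, 6, 2, 3, 2, 4, 0, 1, 3, 4, 0, 6, 1, 5, 6, 4, 0, 2, 3, 2, 1, 6, 4, 1, 2, 3, 2, 4, 3, 2, 3, 2, 1, 6, 4, 1, 4, 5, 6, 2, 1, 6, 4, 5, 2, 5, 4, 0, 1, 6, 4, 1, 2, 3, 2, 1, 3, 4, 5, 3, 1, 2, 3, 2, 1, 2, 6, 1, 3, 2, 0, 5, 3, 1, 3, 6, 5, 1, 6, 4, 3, 4, 0, 6, 5, 1, 6, 2, 3, 2, 6, 5, 1, 6, 4, 3, 4, 0, 1, 4, 6, 1, 2, 0, 5, 1, 4, 6, 1, 3, 3, 5, 0, 2, 4, 5, 6, 2, 1, 6, 4, 5, 2, 5, 4, 0, 0, 4, 3, 1, 0, 4, 1, 6, 1, 4, 5, 1, 3, 2, 4, 2, 2, 4, 2, 1, 4, 6, 1, 2, 0, 5, 1, 4, 6, 1, 3, 3, 5, 0, 2, 4, 5, 6, 2, 1, 6, 4, 5, 2, 5, 4, 0, 0, 4, 3, 1, 0, 4, 1, 6, 1, 4, 5, 1, 3, 1, 4, 6, 1, 2, 3, 2, 1, 4, 6, 1, 2, 0, 5, 1, 4, 6, 1, 3, 3, 5, 0, 2, 0, 4, 1, 4, 6, 1, 2, 3, 2, 3, 4, 1, 2, 1, 6, 4, 2, 1, 5, 2, 3],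
  [4, 3, 1, 6, 2, 0, 5, 3, 4, 3, 1, 6, 2, 3, 2, 1, 3, 6, 1, 5, 6, 2, 3, 2, 6, 5, 1, 6, 2, 3, 2, 4, 3, 4, 0, 2, 3, 2, 1, 6, 4, 1, 2, 3, 2, 1, 6, 4, 1, 0, 4, 5, 2, 5, 4, 6, 1, 2, 6, 5, 4, 1, 6, 4, 1, 1, 4, 6, 1, 2, 0, 5, 1, 4, 6, 1, 3, 3, 5, 0, 2, 4, 5, 6, 2, 1, 6, 4, 5, 2, 5, 4, 0, 0, 4, 3, 1, 0, 4, 1, 6, 1, 4, 5, 1, 3, 2, 4, 2, 1, 4, 6, 1, 2, 0, 5, 1, 4, 6, 1, 3, 3, 5, 0, 2, 4, 5, 6, 2, 1, 6, 4, 5, 2, 5, 4, 0, 0, 4, 3, 1, 0, 4, 1, 6, 1, 4, 5, 1, 3, 1, 4, 6, 1, 2, 3, 2, 1, 4, 6, 1, 2, 0, 5, 1, 4, 6, 1, 3, 3, 5, 0, 2, 0, 4, 1, 4, 6, 1, 2, 3, 2, 3, 4, 1, 2, 1, 6, 4, 2, 1, 5, 2, 3, 2, 4, 2]]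

/-- Packed rows of the letters. -/
def rowsSuzP11 : List (List ℕ) :=
  [[287342913912354501250518868969886773472407011406643201,
    478904856565193460051072069187370286514027402989928449,
    574694596834534349006475555873628746242157546135683073,
    574693135332895656968897767714802068515762271783223302,
    2041725355782157009460703207754993696774,
    574685827913911302688887696833553668472860462882750465,
    478910702638643658128868752688431191813858958338162694,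
    95780971371021990685976944466236687259358429119315974,
    95783894329693800944515709732603715926322476593709058,
    95780971304118734243284787595214301689748471878254592,
    478904856520592309962339228137854303126064289556922374,
    191567788614787132318301273194411915544046684061630470],
  [574690212418823975957183852913697452912703091475939329,
    95783894374295291362345905772580548898236903402242053,
    574693135466701149007181794006805015910788250321682437,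
    191570711640362199045493362720288039178585182209966086,
    191561942697440108951593762042667602443796106388504582,
    287345837004833504985137670288712357066098893121519621,
    574687289348648099402856180477281319750432285006299137,
    191563404176776694671558312389731542265271641396543488,
    95789740403145019884990363534891736548021530179796993,
    95782432872658300721025277129702309401084404523270145,
    95782432894960066766657059227441007566831523398418435,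
    191563404243679610805922460168011082891879679267241990]]

theorem letSuzP11 : letChk baseSuz wordsSuzP11 rowsSuzP11 = true := by decide +kernel

theorem presSuzP11 : certSuzP11.presOK (eqvS rowsSuzP11) = true := by decide +kernel

theorem consSuzP11 : certSuzP11.consOK (eqvS rowsSuzP11) = true := by decide +kernel

theorem finalSuzP11 : certSuzP11.finalOK (modOps 11 1) [] = true := by decide +kernel

theorem perSuzP11 : perPart certSuzP11 = true := by decide +kernel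

theorem edgesSuzP11_0 : edgesPart (modOps 11 1) certSuzP11 0 11 = true := by decide +kernel

theorem injSuzP11_0 : injPartS certSuzP11 rowsSuzP11 0 11 = true := by decide +kernel

theorem okSuzP11 : allS (modOps 11 1) certSuzP11 [] baseSuz wordsSuzP11 rowsSuzP11 = true :=
  allS_of_parts (modOps 11 1) certSuzP11 [] wordsSuzP11 rowsSuzP11 11 1 (by norm_num) rfl letSuzP11 presSuzP11 consSuzP11 finalSuzP11 perSuzP11
    (fun j hj => by interval_cases j; exacts [edgesSuzP11_0])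
    (fun j hj => by interval_cases j; exacts [injSuzP11_0])

end CfsgLib.KnownA.SchurCert.SuzCert
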