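import Cfsg.Agent.Lib.KnownA.SuzSchur.Parts
import Cfsg.Agent.Lib.KnownA.SuzSchur.Dec
import Mathlib.Tactic.IntervalCases

/-!
The certificate for the prime 13 and the multiplier of the Suzuki group.
-/

set_option autoImplicit false
set_option maxRecDepth 100000
set_option Elab.async false

namespace CfsgLib.KnownA.SchurCert.SuzCert

open CfsgLib.KnownA.SchurCert CfsgLib.KnownA.SchurCert.Co3Cert

/-- Table. -/
def tblSuzP13T0 : Trie :=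
  (.node (.node (.node (.node (.leaf 0x1 0x0 0x0 0x0)
  (.leaf 0x9 0x0 0x0 0x0))
  (.node (.leaf 0x5 0x0 0x0 0x0)
  (.leaf 0x0 0x1 0xc000000 0x1)))
  (.node (.node (.leaf 0x3 0x0 0x0 0x0)
  (.leaf 0xb 0x0 0x0 0x0))
  (.node (.leaf 0x7 0x0 0x0 0x0)
  (.leaf 0 0 0 0))))
  (.node (.node (.node (.leaf 0x2 0x0 0x0 0x0)
  (.leaf 0xa 0x0 0x0 0x0))
  (.node (.leaf 0x6 0x0 0x0 0x0)
  (.leaf 0 0 0 0)))
  (.node (.node (.leaf 0x4 0x0 0x0 0x0)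
  (.leaf 0xc 0x0 0x0 0x0))
  (.node (.leaf 0x8 0x0 0x0 0x0)
  (.leaf 0 0 0 0)))))

/-- Table. -/
def tblSuzP13 : Trie :=
  tblSuzP13T0

/-- Certificate. -/
def certSuzP13 :=
  mkCert (decMod 1) 13 1 13 tblSuzP13
    [([0, 0, 0, 0, 0, 0, 0, 0, 0, 0, 0, 0, 0], [])]
    [none] [13] []
    [([(0, 0), (1, 12), (2, 11), (3, 10), (4, 9), (5, 8), (6, 7), (7, 6), (8, 5), (9, 4), (10, 3), (11, 2), (12, 1)], [(1, 1, 1), (2, 1, 1), (3, 1, 1), (4, 1, 1), (5, 1, 1), (6, 1, 1), (7, 1, 1), (8, 1, 1), (9, 1, 1), (10, 1, 1), (11, 1, 1), (12, 1, 1), (0, 0, 1)])]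
    [[(0, 7)]]

/-- Words of the letters. -/
def wordsSuzP13 : List (List ℕ) :=
  [[3, 4, 2, 3, 2, 3, 4, 1, 6, 2, 3, 2, 1, 3, 6, 1, 5, 6, 3, 4, 2, 3, 2, 6, 1, 5, 6, 3, 5, 0, 2, 4, 3, 2, 3, 2, 0, 4, 3, 4, 6, 1, 5, 6, 2, 3, 2, 6, 1, 5, 6, 0, 4, 3, 4, 6, 1, 5, 6, 3, 1, 3, 5, 0, 2, 3, 1, 6, 2, 1, 2, 3, 2, 1, 3, 5, 4, 3, 1, 1, 6, 4, 1, 2, 3, 2, 4, 5, 6, 2, 1, 6, 4, 5, 2, 5, 4, 0, 1, 6, 4, 1, 3, 1, 5, 4, 1, 6, 1, 4, 0, 1, 3, 4, 0, 0, 4, 5, 2, 5, 4, 6, 1, 2, 6, 5, 4, 2, 0, 5, 3, 3, 1, 6, 4, 1, 5, 0, 2, 1, 6, 4, 1, 3, 2, 5, 1, 2, 4, 6, 1, 2, 1, 4, 3, 2, 3, 2, 1, 6, 4, 1, 4, 0, 2, 0, 5, 3, 3, 1, 6, 4, 1, 5, 0, 2, 1, 6, 4, 1, 2, 3, 2, 1, 6, 4, 1, 3, 1, 5, 4, 1, 6, 1, 4, 0, 1, 3, 4, 0, 0, 4, 5, 2, 5, 4, 6, 1, 2, 6, 5, 4, 2, 0, 5, 3, 3, 1, 6, 4, 1, 5, 0, 2, 1, 6, 4, 1, 2, 4, 2],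
  [6, 1, 2, 0, 5, 3, 6, 1, 4, 3, 2, 3, 2, 1, 3, 2, 3, 2, 6, 1, 5, 6, 2, 3, 2, 1, 6, 4, 1, 3, 4, 4, 0, 2, 3, 2, 1, 6, 4, 1, 0, 4, 5, 2, 5, 4, 6, 1, 2, 6, 5, 4, 2, 4, 2, 2, 3, 2, 0, 4, 3, 4, 6, 1, 5, 6, 2, 3, 2, 6, 1, 5, 6, 0, 4, 3, 4, 6, 1, 5, 6, 3, 1, 3, 5, 0, 2, 3, 1, 6, 2, 1, 2, 3, 2, 1, 3, 5, 4, 3, 1, 3, 2, 5, 1, 2, 4, 6, 1, 2, 1, 4, 3, 2, 3, 2, 1, 6, 4, 1, 4, 0, 2, 0, 5, 3, 3, 1, 6, 4, 1, 5, 0, 2, 1, 6, 4, 1, 2, 3, 2, 1, 6, 4, 1, 3, 1, 5, 4, 1, 6, 1, 4, 0, 1, 3, 4, 0, 0, 4, 5, 2, 5, 4, 6, 1, 2, 6, 5, 4, 2, 0, 5, 3, 3, 1, 6, 4, 1, 5, 0, 2, 1, 6, 4, 1, 2, 4, 2, 3, 1, 5, 4, 1, 6, 1, 4, 0, 1, 3, 4, 0, 0, 4, 5, 2, 5, 4, 6, 1, 2, 6, 5, 4, 2, 0, 5, 3, 3, 1, 6, 4, 1, 5, 0, 2, 1, 6, 4, 1, 2, 4, 2, 2, 3, 2, 3, 2, 5, 1, 2, 4, 6, 1, 2, 1, 4, 3, 2, 3, 2, 1, 6, 4, 1, 4, 0, 2, 0, 5, 3, 3, 1, 6, 4, 1, 5, 0, 2, 1, 6, 4, 1, 2, 3, 2, 1, 6, 4, 1, 3, 1, 5, 4, 1, 6, 1, 4, 0,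 1, 3, 4, 0, 0, 4, 5, 2, 5, 4, 6, 1, 2, 6, 5, 4, 2, 0, 5, 3, 3, 1, 6, 4, 1, 5, 0, 2, 1, 6, 4, 1, 2, 4, 2, 2, 4, 2, 2, 4, 2, 1, 4, 6, 1, 2, 0, 5, 1, 4, 6, 1, 3, 3, 5, 0, 2, 4, 5, 6, 2, 1, 6, 4, 5, 2, 5, 4, 0, 0, 4, 3, 1, 0, 4, 1, 6, 1, 4, 5, 1, 3, 1, 4, 6, 1, 2, 3, 2, 1, 4, 6, 1, 2, 0, 5, 1, 4, 6, 1, 3, 3, 5, 0, 2, 0, 4, 1, 4, 6, 1, 2, 3, 2, 3, 4, 1, 2, 1, 6, 4, 2, 1, 5, 2, 3]]

/-- Packed rows of the letters. -/
def rowsSuzP13 : List (List ℕ) :=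
  [[2923047878193907483852231167670521015853511999489,
    7307641992827133186410997624793126394499835232256,
    287345837027132889033431580693744144343254776852578304,
    574690212463425126077070475112004458200306939460583424,
    7307530489441417708236289778375696728519291830274,
    478909241092405177116448520521152089001061813462302720,
    8769143630158041297228458478023586214293885288448,
    2923137079473300156413047807563066641121622228997,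
    7307619690720805188262558560212990221963063853057,
    574691673853559411567645899400877421432358752032718848,
    574693135466701489294741091030756840018698413816283137,
    95788278856906538867377438368265216338261826070446085],
  [95785355898234388295318367150620570439997596909961217,
    383125346718109545502889554193106463351760769549074434,
    383128269788286442925087097649680967748206601202302981,
    287344375458592982257746725050468552839924607999148038,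
    383129731223023579900653394019850657052528308857798661,
    383128269765987058845639485314349008025820877425803270,
    383123885216472214610355944225343402325239152026583042,
    287344375525495217853338515246913193393532098972811270,
    191566327113148100034701770600704780626200821629976582,
    95786817310667377264261800802013608549645104703340548,
    287348759985805720154647127846154055496889461800697858,
    574691673920461987440412313679668567818579456162791430]]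

theorem letSuzP13 : letChk baseSuz wordsSuzP13 rowsSuzP13 = true := by decide +kernel

theorem presSuzP13 : certSuzP13.presOK (eqvS rowsSuzP13) = true := by decide +kernel

theorem consSuzP13 : certSuzP13.consOK (eqvS rowsSuzP13) = true := by decide +kernel

theorem finalSuzP13 : certSuzP13.finalOK (modOps 13 1) [] = true := by decide +kernel

theorem perSuzP13 : perPart certSuzP13 = true := by decide +kernel

theorem edgesSuzP13_0 : edgesPart (modOps 13 1) certSuzP13 0 13 = true := by decide +kernel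

theorem injSuzP13_0 : injPartS certSuzP13 rowsSuzP13 0 13 = true := by decide +kernel

theorem okSuzP13 : allS (modOps 13 1) certSuzP13 [] baseSuz wordsSuzP13 rowsSuzP13 = true :=
  allS_of_parts (modOps 13 1) certSuzP13 [] wordsSuzP13 rowsSuzP13 13 1 (by norm_num) rfl letSuzP13 presSuzP13 consSuzP13 finalSuzP13 perSuzP13
    (fun j hj => by interval_cases j; exacts [edgesSuzP13_0])
    (fun j hj => by interval_cases j; exacts [injSuzP13_0])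

end CfsgLib.KnownA.SchurCert.SuzCert
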