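import Cfsg.Agent.Lib.KnownA.SuzSchur.Parts
import Cfsg.Agent.Lib.KnownA.SuzSchur.P4D

/-!
Checks on the states for the prime 2.
-/

set_option autoImplicit false
set_option maxRecDepth 100000
set_option Elab.async false

namespace CfsgLib.KnownA.SchurCert.SuzCert

open CfsgLib.KnownA.SchurCert CfsgLib.KnownA.SchurCert.Co3Cert

theorem edgesSuzP4_0 : edgesPart (quadOps 91) certSuzP4 0 256 = true := by decide +kernel

theorem injSuzP4_0 : injPartS certSuzP4 rowsSuzP4 0 256 = true := by decide +kernel

theorem edgesSuzP4_1 : edgesPart (quadOps 91) certSuzP4 256 256 = true := by decide +kernel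

theorem injSuzP4_1 : injPartS certSuzP4 rowsSuzP4 256 256 = true := by decide +kernel

theorem edgesSuzP4_2 : edgesPart (quadOps 91) certSuzP4 512 256 = true := by decide +kernel

theorem injSuzP4_2 : injPartS certSuzP4 rowsSuzP4 512 256 = true := by decide +kernel

theorem edgesSuzP4_3 : edgesPart (quadOps 91) certSuzP4 768 256 = true := by decide +kernel

theorem injSuzP4_3 : injPartS certSuzP4 rowsSuzP4 768 256 = true := by decide +kernel

theorem edgesSuzP4_4 : edgesPart (quadOps 91) certSuzP4 1024 256 = true := by decide +kernel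

theorem injSuzP4_4 : injPartS certSuzP4 rowsSuzP4 1024 256 = true := by decide +kernel

theorem edgesSuzP4_5 : edgesPart (quadOps 91) certSuzP4 1280 256 = true := by decide +kernel

theorem injSuzP4_5 : injPartS certSuzP4 rowsSuzP4 1280 256 = true := by decide +kernel

theorem edgesSuzP4_6 : edgesPart (quadOps 91) certSuzP4 1536 256 = true := by decide +kernel

theorem injSuzP4_6 : injPartS certSuzP4 rowsSuzP4 1536 256 = true := by decide +kernel

theorem edgesSuzP4_7 : edgesPart (quadOps 91) certSuzP4 1792 256 = true := by decide +kernel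

theorem injSuzP4_7 : injPartS certSuzP4 rowsSuzP4 1792 256 = true := by decide +kernel

end CfsgLib.KnownA.SchurCert.SuzCert
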