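import Cfsg.Agent.Lib.KnownA.SuzSchur.Parts
import Cfsg.Agent.Lib.KnownA.SuzSchur.P4D

/-!
Checks on the states for the prime 2.
-/

set_option autoImplicit false
set_option maxRecDepth 100000
set_option Elab.async false

namespace CfsgLib.KnownA.SchurCert.SuzCert

open CfsgLib.KnownA.SchurCert CfsgLib.KnownA.SchurCert.Co3Cert

theorem edgesSuzP4_8 : edgesPart (quadOps 91) certSuzP4 2048 256 = true := by decide +kernel

theorem injSuzP4_8 : injPartS certSuzP4 rowsSuzP4 2048 256 = true := by decide +kernel

theorem edgesSuzP4_9 : edgesPart (quadOps 91) certSuzP4 2304 256 = true := by decide +kernel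

theorem injSuzP4_9 : injPartS certSuzP4 rowsSuzP4 2304 256 = true := by decide +kernel

theorem edgesSuzP4_10 : edgesPart (quadOps 91) certSuzP4 2560 256 = true := by decide +kernel

theorem injSuzP4_10 : injPartS certSuzP4 rowsSuzP4 2560 256 = true := by decide +kernel

theorem edgesSuzP4_11 : edgesPart (quadOps 91) certSuzP4 2816 256 = true := by decide +kernel

theorem injSuzP4_11 : injPartS certSuzP4 rowsSuzP4 2816 256 = true := by decide +kernel

theorem edgesSuzP4_12 : edgesPart (quadOps 91) certSuzP4 3072 256 = true := by decide +kernel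

theorem injSuzP4_12 : injPartS certSuzP4 rowsSuzP4 3072 256 = true := by decide +kernel

theorem edgesSuzP4_13 : edgesPart (quadOps 91) certSuzP4 3328 256 = true := by decide +kernel

theorem injSuzP4_13 : injPartS certSuzP4 rowsSuzP4 3328 256 = true := by decide +kernel

theorem edgesSuzP4_14 : edgesPart (quadOps 91) certSuzP4 3584 256 = true := by decide +kernel

theorem injSuzP4_14 : injPartS certSuzP4 rowsSuzP4 3584 256 = true := by decide +kernel

theorem edgesSuzP4_15 : edgesPart (quadOps 91) certSuzP4 3840 256 = true := by decide +kernel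

theorem injSuzP4_15 : injPartS certSuzP4 rowsSuzP4 3840 256 = true := by decide +kernel

end CfsgLib.KnownA.SchurCert.SuzCert
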