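import Cfsg.Agent.Lib.KnownA.SuzSchur.Parts
import Cfsg.Agent.Lib.KnownA.SuzSchur.P4D

/-!
Checks on the states for the prime 2.
-/

set_option autoImplicit false
set_option maxRecDepth 100000
set_option Elab.async false

namespace CfsgLib.KnownA.SchurCert.SuzCert

open CfsgLib.KnownA.SchurCert CfsgLib.KnownA.SchurCert.Co3Cert

theorem edgesSuzP4_24 : edgesPart (quadOps 91) certSuzP4 6144 256 = true := by decide +kernel

theorem injSuzP4_24 : injPartS certSuzP4 rowsSuzP4 6144 256 = true := by decide +kernel

theorem edgesSuzP4_25 : edgesPart (quadOps 91) certSuzP4 6400 256 = true := by decide +kernel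

theorem injSuzP4_25 : injPartS certSuzP4 rowsSuzP4 6400 256 = true := by decide +kernel

theorem edgesSuzP4_26 : edgesPart (quadOps 91) certSuzP4 6656 256 = true := by decide +kernel

theorem injSuzP4_26 : injPartS certSuzP4 rowsSuzP4 6656 256 = true := by decide +kernel

theorem edgesSuzP4_27 : edgesPart (quadOps 91) certSuzP4 6912 256 = true := by decide +kernel

theorem injSuzP4_27 : injPartS certSuzP4 rowsSuzP4 6912 256 = true := by decide +kernel

theorem edgesSuzP4_28 : edgesPart (quadOps 91) certSuzP4 7168 256 = true := by decide +kernel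

theorem injSuzP4_28 : injPartS certSuzP4 rowsSuzP4 7168 256 = true := by decide +kernel

theorem edgesSuzP4_29 : edgesPart (quadOps 91) certSuzP4 7424 256 = true := by decide +kernel

theorem injSuzP4_29 : injPartS certSuzP4 rowsSuzP4 7424 256 = true := by decide +kernel

theorem edgesSuzP4_30 : edgesPart (quadOps 91) certSuzP4 7680 256 = true := by decide +kernel

theorem injSuzP4_30 : injPartS certSuzP4 rowsSuzP4 7680 256 = true := by decide +kernel

theorem edgesSuzP4_31 : edgesPart (quadOps 91) certSuzP4 7936 256 = true := by decide +kernel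

theorem injSuzP4_31 : injPartS certSuzP4 rowsSuzP4 7936 256 = true := by decide +kernel

end CfsgLib.KnownA.SchurCert.SuzCert
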