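import Cfsg.Agent.Lib.KnownA.SuzSchur.P4R
import Cfsg.Agent.Lib.KnownA.SuzSchur.P4E0
import Cfsg.Agent.Lib.KnownA.SuzSchur.P4E1
import Cfsg.Agent.Lib.KnownA.SuzSchur.P4E2
import Cfsg.Agent.Lib.KnownA.SuzSchur.P4E3
import Mathlib.Tactic.IntervalCases

/-!
The certificate for the prime 2 and the multiplier of the Suzuki group.
-/

set_option autoImplicit false
set_option maxRecDepth 100000
set_option Elab.async false

namespace CfsgLib.KnownA.SchurCert.SuzCert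

open CfsgLib.KnownA.SchurCert CfsgLib.KnownA.SchurCert.Co3Cert

theorem okSuzP4 : allS (quadOps 91) certSuzP4 [0, 1, 3, 4, 6, 10] baseSuz wordsSuzP4 rowsSuzP4 = true :=
  allS_of_parts (quadOps 91) certSuzP4 [0, 1, 3, 4, 6, 10] wordsSuzP4 rowsSuzP4 256 32 (by norm_num) rfl letSuzP4 presSuzP4 consSuzP4 finalSuzP4 perSuzP4
    (fun j hj => by interval_cases j; exacts [edgesSuzP4_0, edgesSuzP4_1, edgesSuzP4_2, edgesSuzP4_3, edgesSuzP4_4, edgesSuzP4_5, edgesSuzP4_6, edgesSuzP4_7, edgesSuzP4_8, edgesSuzP4_9, edgesSuzP4_10, edgesSuzP4_11, edgesSuzP4_12, edgesSuzP4_13, edgesSuzP4_14, edgesSuzP4_15, edgesSuzP4_16, edgesSuzP4_17, edgesSuzP4_18, edgesSuzP4_19, edgesSuzP4_20, edgesSuzP4_21, edgesSuzP4_22, edgesSuzP4_23, edgesSuzP4_24, edgesSuzP4_25, edgesSuzP4_26, edgesSuzP4_27, edgesSuzP4_28, edgesSuzP4_29, edgesSuzP4_30, edgesSuzP4_31])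
    (fun j hj => by interval_cases j; exacts [injSuzP4_0, injSuzP4_1, injSuzP4_2, injSuzP4_3, injSuzP4_4, injSuzP4_5, injSuzP4_6, injSuzP4_7, injSuzP4_8, injSuzP4_9, injSuzP4_10, injSuzP4_11, injSuzP4_12, injSuzP4_13, injSuzP4_14, injSuzP4_15, injSuzP4_16, injSuzP4_17, injSuzP4_18, injSuzP4_19, injSuzP4_20, injSuzP4_21, injSuzP4_22, injSuzP4_23, injSuzP4_24, injSuzP4_25, injSuzP4_26, injSuzP4_27, injSuzP4_28, injSuzP4_29, injSuzP4_30, injSuzP4_31])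

end CfsgLib.KnownA.SchurCert.SuzCert
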