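import Cfsg.Agent.Lib.KnownA.SuzSchur.Parts
import Cfsg.Agent.Lib.KnownA.SuzSchur.Dec
import Mathlib.Tactic.IntervalCases

/-!
The certificate for the prime 7 and the multiplier of the Suzuki group.
-/

set_option autoImplicit false
set_option maxRecDepth 100000
set_option Elab.async false

namespace CfsgLib.KnownA.SchurCert.SuzCert

open CfsgLib.KnownA.SchurCert CfsgLib.KnownA.SchurCert.Co3Cert

/-- Table. -/
def tblSuzP7T0 : Trie :=
  (.node (.node (.node (.leaf 0x1 0x0 0x0 0x0)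
  (.leaf 0x5 0x0 0x0 0x0))
  (.node (.leaf 0x3 0x0 0x0 0x0)
  (.leaf 0x0 0x1 0x6000000 0x1)))
  (.node (.node (.leaf 0x2 0x0 0x0 0x0)
  (.leaf 0x6 0x0 0x0 0x0))
  (.node (.leaf 0x4 0x0 0x0 0x0)
  (.leaf 0 0 0 0))))

/-- Table. -/
def tblSuzP7 : Trie :=
  tblSuzP7T0

/-- Certificate. -/
def certSuzP7 :=
  mkCert (decMod 1) 7 1 7 tblSuzP7
    [([0, 0, 0, 0, 0, 0, 0], [])]
    [none] [7] []
    [([(0, 0), (1, 6), (2, 5), (3, 4), (4, 3), (5, 2), (6, 1)], [(1, 1, 1), (2, 1, 1), (3, 1, 1), (4, 1, 1), (5, 1, 1), (6, 1, 1), (0, 0, 1)])]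
    [[(0, 4)]]

/-- Words of the letters. -/
def wordsSuzP7 : List (List ℕ) :=
  [[2, 3, 2, 1, 3, 6, 5, 1, 6, 1, 3, 2, 0, 5, 3, 4, 3, 2, 3, 2, 1, 3, 4, 3, 2, 0, 5, 3, 1, 6, 4, 1, 2, 3, 2, 6, 5, 1, 6, 3, 4, 4, 0, 2, 4, 2, 2, 3, 2, 1, 6, 4, 1, 0, 4, 5, 2, 5, 4, 6, 1, 2, 6, 5, 4, 1, 3, 4, 5, 3, 1, 2, 3, 2, 1, 2, 6, 1, 3, 2, 0, 5, 3, 1, 3, 6, 5, 1, 6, 4, 3, 4, 0, 6, 5, 1, 6, 2, 3, 2, 6, 5, 1, 6, 4, 3, 4, 0, 2, 4, 2, 1, 4, 6, 1, 2, 0, 5, 1, 4, 6, 1, 3, 3, 5, 0, 2, 4, 5, 6, 2, 1, 6, 4, 5, 2, 5, 4, 0, 0, 4, 3, 1, 0, 4, 1, 6, 1, 4, 5, 1, 3, 1, 4, 6, 1, 2, 3, 2, 1, 4, 6, 1, 2, 0, 5, 1, 4, 6, 1, 3, 3, 5, 0, 2, 0, 4, 1, 4, 6, 1, 2, 3, 2, 3, 4, 1, 2, 1, 6, 4, 2, 1, 5, 2, 3, 3, 1, 5, 4, 1, 6, 1, 4, 0, 1, 3, 4, 0, 0, 4, 5, 2, 5, 4, 6, 1, 2, 6, 5, 4, 2, 0, 5, 3, 3, 1, 6, 4, 1, 5, 0, 2, 1, 6, 4, 1, 2, 4, 2, 2, 3, 2, 3, 2, 5, 1, 2, 4, 6, 1, 2, 1, 4, 3, 2, 3, 2, 1, 6, 4, 1, 4, 0, 2, 0, 5, 3,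 3, 1, 6, 4, 1, 5, 0, 2, 1, 6, 4, 1, 2, 3, 2, 1, 6, 4, 1, 3, 1, 5, 4, 1, 6, 1, 4, 0, 1, 3, 4, 0, 0, 4, 5, 2, 5, 4, 6, 1, 2, 6, 5, 4, 2, 0, 5, 3, 3, 1, 6, 4, 1, 5, 0, 2, 1, 6, 4, 1, 2, 4, 2],
  [3, 5, 0, 2, 1, 6, 4, 1, 3, 4, 2, 3, 2, 1, 3, 2, 0, 5, 3, 4, 0, 1, 6, 4, 1, 4, 0, 1, 6, 4, 1, 2, 3, 2, 4, 3, 1, 6, 4, 1, 2, 3, 2, 1, 6, 4, 1, 4, 5, 6, 2, 1, 6, 4, 5, 2, 5, 4, 0, 2, 4, 2, 2, 3, 2, 1, 3, 4, 5, 3, 1, 2, 3, 2, 1, 2, 6, 1, 3, 2, 0, 5, 3, 1, 3, 6, 5, 1, 6, 4, 3, 4, 0, 6, 5, 1, 6, 2, 3, 2, 6, 5, 1, 6, 4, 3, 4, 0, 1, 4, 6, 1, 2, 0, 5, 1, 4, 6, 1, 3, 3, 5, 0, 2, 4, 5, 6, 2, 1, 6, 4, 5, 2, 5, 4, 0, 0, 4, 3, 1, 0, 4, 1, 6, 1, 4, 5, 1, 3, 2, 4, 2, 2, 3, 2, 2, 4, 2, 2, 4, 2, 1, 4, 6, 1, 2, 0, 5, 1, 4, 6, 1, 3, 3, 5, 0, 2, 4, 5, 6, 2, 1, 6, 4, 5, 2, 5, 4, 0, 0, 4, 3, 1, 0, 4, 1, 6, 1, 4, 5, 1, 3, 1, 4, 6, 1, 2, 3, 2, 1, 4, 6, 1, 2, 0, 5, 1, 4, 6, 1, 3, 3, 5, 0, 2, 0, 4, 1, 4, 6, 1,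 2, 3, 2, 3, 4, 1, 2, 1, 6, 4, 2, 1, 5, 2, 3]]

/-- Packed rows of the letters. -/
def rowsSuzP7 : List (List ℕ) :=
  [[478910702549442038484983131306654760618050004713537536,
    574685827936213749309637439158731659355321643414126592,
    95780971437924566548359240399351207846367433140011011,
    574685827869311173416101678995520803025784283341389826,
    574693135355197423009336539898125551267024296338325509,
    95789740447748211688693838428418814459020632802721792,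
    574688750850285430321351274736509556206785073967923205,
    95782432939561557174102820004255233043922353140137984,
    478904856654395760280460482196934411788158732322603008,
    574690212463426487216922514902067275408042098084347908,
    574688750850285430331735709994836257508683864258707458,
    22302106348767652791898613699769139510575104],
  [7307530488080293432770159043372878242830706999297,
    95785355875933643091595447152967876177485038880948230,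
    574688750894886920708028085757627384863004720470556674,
    478909241070105112482652056169193372982848667579973633,
    287345836915630524185823039320359684876213066335059969,
    8769009826027122095341456846770096593167028912134,
    2923003275342391339436680731688276120251608006661,
    574690212418824656527109516275348436872145488545185798,
    383126808219748577828026956288535151370343622562283521,
    5846006550684746332795351719583152808495298248710,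
    383131192724659549684488507669108027128224931006054406,
    25961484292674230378061704349220865]]

theorem letSuzP7 : letChk baseSuz wordsSuzP7 rowsSuzP7 = true := by decide +kernel

theorem presSuzP7 : certSuzP7.presOK (eqvS rowsSuzP7) = true := by decide +kernel

theorem consSuzP7 : certSuzP7.consOK (eqvS rowsSuzP7) = true := by decide +kernel

theorem finalSuzP7 : certSuzP7.finalOK (modOps 7 1) [] = true := by decide +kernel

theorem perSuzP7 : perPart certSuzP7 = true := by decide +kernel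

theorem edgesSuzP7_0 : edgesPart (modOps 7 1) certSuzP7 0 7 = true := by decide +kernel

theorem injSuzP7_0 : injPartS certSuzP7 rowsSuzP7 0 7 = true := by decide +kernel

theorem okSuzP7 : allS (modOps 7 1) certSuzP7 [] baseSuz wordsSuzP7 rowsSuzP7 = true :=
  allS_of_parts (modOps 7 1) certSuzP7 [] wordsSuzP7 rowsSuzP7 7 1 (by norm_num) rfl letSuzP7 presSuzP7 consSuzP7 finalSuzP7 perSuzP7
    (fun j hj => by interval_cases j; exacts [edgesSuzP7_0])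
    (fun j hj => by interval_cases j; exacts [injSuzP7_0])

end CfsgLib.KnownA.SchurCert.SuzCert
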