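import Cfsg.Agent.Lib.KnownA.SuzSchur.P2
import Cfsg.Agent.Lib.KnownA.SuzSchur.P3
import Cfsg.Agent.Lib.KnownA.SuzSchur.P4
import Cfsg.Agent.Lib.KnownA.SuzSchur.P5
import Cfsg.Agent.Lib.KnownA.SuzSchur.P7
import Cfsg.Agent.Lib.KnownA.SuzSchur.P9
import Cfsg.Agent.Lib.KnownA.SuzSchur.P11
import Cfsg.Agent.Lib.KnownA.SuzSchur.P13
import Cfsg.Agent.Lib.KnownA.SuzSchur.Cover
import Cfsg.Agent.Lib.Coprime.SchurAbelian

/-!
The Schur multiplier of the presented Suzuki group is cyclic of order 6.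
-/

set_option autoImplicit false
set_option maxRecDepth 100000

namespace CfsgLib.KnownA.SchurCert.SuzCert

open Cfsg Cfsg.Spor CfsgLib.KnownA.SchurCert

variable {Γ : Type} [Group Γ] [Finite Γ] {σ : Γ →* Suz}

theorem prime_cases {p : ℕ} (hp : p.Prime) (h : p ∣ 448345497600) (h2 : p ≠ 2) (h3 : p ≠ 3) :
    p = 5 ∨ p = 7 ∨ p = 11 ∨ p = 13 := by
  rw [show (448345497600 : ℕ) = 2 ^ 13 * 3 ^ 7 * 5 ^ 2 * 7 * 11 * 13 by norm_num] at h
  have q := fun {r : ℕ} (hr : r.Prime) (h : p ∣ r) => (Nat.prime_dvd_prime_iff_eq hp hr).1 h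
  rcases (Nat.Prime.dvd_mul hp).1 h with h | h
  · rcases (Nat.Prime.dvd_mul hp).1 h with h | h
    · rcases (Nat.Prime.dvd_mul hp).1 h with h | h
      · rcases (Nat.Prime.dvd_mul hp).1 h with h | h
        · rcases (Nat.Prime.dvd_mul hp).1 h with h | h
          · exact absurd (q Nat.prime_two (hp.dvd_of_dvd_pow h)) h2
          · exact absurd (q Nat.prime_three (hp.dvd_of_dvd_pow h)) h3
        · exact Or.inl (q Nat.prime_five (hp.dvd_of_dvd_pow h))
      · exact Or.inr (Or.inl (q (by norm_num) h))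
    · exact Or.inr (Or.inr (Or.inl (q (by norm_num) h)))
  · exact Or.inr (Or.inr (Or.inr (q (by norm_num) h)))

theorem not_dvd_other (hσ : Cfsg.IsStemExtension σ) {p : ℕ} (hp : p.Prime) (h2 : p ≠ 2) (h3 : p ≠ 3) :
    ¬ p ∣ Nat.card σ.ker := by
  intro hdvd
  have : Fact p.Prime := ⟨hp⟩
  have : Finite Suz := CfsgLib.InvChar.SporSuz.card_le.1
  obtain ⟨z, hz⟩ := exists_prime_orderOf_dvd_card' p hdvd
  have hpG : p ∣ 448345497600 := by
    rw [← CfsgLib.InvChar.SporSuz.card_eq.1, ← hz, ← Subgroup.orderOf_coe, orderOf_dvd_iff_pow_eq_one]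
    exact ker_pow_card hσ (z : Γ) z.2
  refine prime_not_dvd_ker p (fun Δ _ _ τ hτ he => ?_) hσ hdvd
  have key : ∀ {τ' : ℕ → Δ}, τ.ker ≤ Subgroup.closure (τ' '' {r | r ∈ ([] : List ℕ)}) → τ.ker = ⊥ :=
    fun h => by simpa using h
  rcases prime_cases hp hpG h2 h3 with rfl | rfl | rfl | rfl
  · obtain ⟨_, -, hle⟩ := ker_le _ certSuzP5 [] _ _ _ (fun τ h => ⟨modEv 5 _ τ h⟩) (by decide +kernel)
      okSuzP5 hτ he
    exact key hle
  · obtain ⟨_, -, hle⟩ := ker_le _ certSuzP7 [] _ _ _ (fun τ h => ⟨modEv 7 _ τ h⟩) (by decide +kernel)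
      okSuzP7 hτ he
    exact key hle
  · obtain ⟨_, -, hle⟩ := ker_le _ certSuzP11 [] _ _ _ (fun τ h => ⟨modEv 11 _ τ h⟩) (by decide +kernel)
      okSuzP11 hτ he
    exact key hle
  · obtain ⟨_, -, hle⟩ := ker_le _ certSuzP13 [] _ _ _ (fun τ h => ⟨modEv 13 _ τ h⟩) (by decide +kernel)
      okSuzP13 hτ he
    exact key hle

theorem pow_bound {Δ : Type} [Group Δ] [Finite Δ] {τ : Δ →* Suz} (hτ : Cfsg.IsStemExtension τ) (q : ℕ)
    (B : List (ℕ × List (ℕ × ℕ))) (t : ℕ → Δ) (htk : ∀ r, t r ∈ τ.ker)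
    (hq : ∀ e ∈ B, t e.1 ^ q = 1) (hle : τ.ker ≤ Subgroup.closure (t '' {r | r ∈ B.map Prod.fst})) :
    ∀ x ∈ τ.ker, x ^ q = 1 := by
  intro x hx
  suffices H : ∀ y ∈ Subgroup.closure (t '' {r | r ∈ B.map Prod.fst}), y ∈ τ.ker ∧ y ^ q = 1 from
    (H x (hle hx)).2
  intro y hy
  induction hy using Subgroup.closure_induction with
  | mem y hy =>
    obtain ⟨r, hr, rfl⟩ := hy
    obtain ⟨e, he', rfl⟩ := List.mem_map.1 hr
    exact ⟨htk _, hq e he'⟩
  | one => exact ⟨one_mem _, one_pow q⟩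
  | mul a b _ _ ha hb =>
    refine ⟨mul_mem ha.1 hb.1, ?_⟩
    rw [(show Commute a b from (Subgroup.mem_center_iff.mp (hτ.2.1 hb.1) a)).mul_pow, ha.2, hb.2,
      one_mul]
  | inv a _ ha => exact ⟨inv_mem ha.1, by rw [inv_pow, ha.2, inv_one]⟩

theorem four (Δ : Type) [Group Δ] [Finite Δ] (τ : Δ →* Suz) (hτ : Cfsg.IsStemExtension τ)
    (he : ∀ x ∈ τ.ker, x ^ 4 = 1) : ∀ x ∈ τ.ker, x ^ 2 = 1 := by
  obtain ⟨t, ⟨htk, ht⟩, hle⟩ := ker_le _ certSuzP4 _ _ _ _ (fun τ h => ⟨quadEv _ τ h⟩) (by decide +kernel)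
    okSuzP4 hτ he
  have hb := bound_four
  simp only [List.all_eq_true] at hb
  refine pow_bound hτ 2 boundFour t htk (fun e he' => ht _ _ _ (hb e he')) (hle.trans ?_)
  exact Subgroup.closure_mono (Set.image_mono fun r hr =>
    (by decide +kernel : ∀ r ∈ [0, 1, 3, 4, 6, 10], r ∈ boundFour.map Prod.fst) r hr)

theorem nine (Δ : Type) [Group Δ] [Finite Δ] (τ : Δ →* Suz) (hτ : Cfsg.IsStemExtension τ)
    (he : ∀ x ∈ τ.ker, x ^ 9 = 1) : ∀ x ∈ τ.ker, x ^ 3 = 1 := by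
  obtain ⟨t, ⟨htk, ht⟩, hle⟩ := ker_le _ certSuzP9 _ _ _ _
    (fun τ h => ⟨nibEv (m := 9) (by norm_num) (by norm_num) _ τ h⟩) (by decide +kernel) okSuzP9 hτ he
  have hb := bound_nine
  simp only [List.all_eq_true] at hb
  refine pow_bound hτ 3 boundNine t htk (fun e he' => ht _ _ _ (hb e he')) (hle.trans ?_)
  exact Subgroup.closure_mono (Set.image_mono fun r hr =>
    (by decide +kernel : ∀ r ∈ [0, 1, 3, 4], r ∈ boundNine.map Prod.fst) r hr)

/-- No kernel element has order divisible by `p ^ 2`. -/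
theorem not_sq_dvd (hσ : Cfsg.IsStemExtension σ) (p : ℕ) [Fact p.Prime]
    (hp2 : ∀ (Δ : Type) [Group Δ] [Finite Δ] (τ : Δ →* Suz), Cfsg.IsStemExtension τ →
      (∀ x ∈ τ.ker, x ^ (p * p) = 1) → ∀ x ∈ τ.ker, x ^ p = 1) (x : σ.ker) :
    ¬ p * p ∣ orderOf x := by
  intro hdvd
  have : Finite Suz := CfsgLib.InvChar.SporSuz.card_le.1
  let _ : CommGroup σ.ker :=
    { (inferInstance : Group σ.ker) with
      mul_comm := fun a b => Subtype.ext (Subgroup.mem_center_iff.mp (hσ.2.1 b.2) a) }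
  let S : Subgroup σ.ker := (powMonoidHom p : σ.ker →* σ.ker).range
  have hsurj : Function.Surjective fun y : S => y ^ p := by
    rintro ⟨_, w, rfl⟩
    obtain ⟨y, hy, hyw⟩ := exists_pow_eq_of_exponent (p * p) p hp2 hσ (w : Γ) w.2
    refine ⟨⟨⟨y, hy⟩ ^ p, ⟨y, hy⟩, rfl⟩, Subtype.ext (Subtype.ext ?_)⟩
    show (y ^ p) ^ p = (w : Γ) ^ p
    rw [← pow_mul]; exact hyw
  have hinj := Finite.injective_iff_surjective.2 hsurj
  obtain ⟨k, hk⟩ := hdvd
  have hpos := orderOf_pos x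
  let z : S := ⟨(x ^ k) ^ p, x ^ k, rfl⟩
  have hz : z = 1 := hinj (a₁ := z) (a₂ := 1) (by
    refine Subtype.ext ?_
    show ((x ^ k) ^ p) ^ p = (1 : σ.ker) ^ p
    rw [one_pow, ← pow_mul, ← pow_mul, show k * (p * p) = orderOf x by rw [hk]; ring, pow_orderOf_eq_one])
  have hz' : x ^ (k * p) = 1 := by
    rw [pow_mul]; exact congrArg Subtype.val hz
  have hle := Nat.le_of_dvd (Nat.mul_pos (Nat.pos_of_ne_zero fun h => by simp [hk, h] at hpos)
    (Fact.out : p.Prime).pos) (orderOf_dvd_of_pow_eq_one hz')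
  have : 2 ≤ p := (Fact.out : p.Prime).two_le
  have hk0 : 0 < k := Nat.pos_of_ne_zero fun h => by simp [hk, h] at hpos
  nlinarith

theorem exp_six (hσ : Cfsg.IsStemExtension σ) : ∀ x ∈ σ.ker, x ^ 6 = 1 := by
  intro x hx
  have key : orderOf (⟨x, hx⟩ : σ.ker) ∣ 6 := by
    rw [Nat.dvd_iff_prime_pow_dvd_dvd]
    intro p k hp hdvd
    rcases Nat.eq_zero_or_pos k with rfl | hk
    · simp
    have h1 : p ∣ Nat.card σ.ker := ((dvd_pow_self p hk.ne').trans hdvd).trans (orderOf_dvd_natCard _)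
    have small : ∀ q : ℕ, q.Prime → p = q → ¬ q * q ∣ orderOf (⟨x, hx⟩ : σ.ker) → p ^ k ∣ q := by
      rintro q hq rfl hn
      have : k = 1 := by
        by_contra hne
        exact hn (((pow_two p).symm ▸ pow_dvd_pow p (by omega : 2 ≤ k)).trans hdvd)
      rw [this, pow_one]
    by_cases h2 : p = 2
    · have : Fact (Nat.Prime 2) := ⟨Nat.prime_two⟩
      exact (small 2 Nat.prime_two h2 (not_sq_dvd hσ 2 four _)).trans (by norm_num)
    by_cases h3 : p = 3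
    · have : Fact (Nat.Prime 3) := ⟨Nat.prime_three⟩
      exact (small 3 Nat.prime_three h3 (not_sq_dvd hσ 3 nine _)).trans (by norm_num)
    exact absurd h1 (not_dvd_other hσ hp h2 h3)
  exact congrArg Subtype.val (orderOf_dvd_iff_pow_eq_one.1 key)

/-- The powers with exponent `p` have index dividing `p`. -/
theorem index_dvd (hσ : Cfsg.IsStemExtension σ) (p : ℕ)
    (hp1 : ∀ (Δ : Type) [Group Δ] [Finite Δ] (τ : Δ →* Suz), Cfsg.IsStemExtension τ →
      (∀ x ∈ τ.ker, x ^ p = 1) → Nat.card τ.ker ∣ p) :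
    ∃ S : Subgroup Γ, S ≤ σ.ker ∧ (∀ x, x ∈ S ↔ ∃ y ∈ σ.ker, y ^ p = x) ∧
      ∃ d, d ∣ p ∧ Nat.card S * d = Nat.card σ.ker := by
  let S : Subgroup Γ :=
    { carrier := {x | ∃ y ∈ σ.ker, y ^ p = x}
      one_mem' := ⟨1, one_mem _, one_pow p⟩
      mul_mem' := by
        rintro _ _ ⟨a, ha, rfl⟩ ⟨b, hb, rfl⟩
        exact ⟨a * b, mul_mem ha hb,
          (show Commute a b from (Subgroup.mem_center_iff.mp (hσ.2.1 hb) a)).mul_pow p⟩
      inv_mem' := by
        rintro _ ⟨a, ha, rfl⟩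
        exact ⟨a⁻¹, inv_mem ha, inv_pow a p⟩ }
  have hS : S ≤ σ.ker := by rintro _ ⟨a, ha, rfl⟩; exact pow_mem ha p
  haveI : S.Normal := ⟨fun x hx g => by
    rw [Subgroup.mem_center_iff.mp (hσ.2.1 (hS hx)) g, mul_inv_cancel_right]; exact hx⟩
  refine ⟨S, hS, fun x => Iff.rfl, Nat.card (QuotientGroup.lift S σ hS).ker,
    hp1 _ _ (stem_quotient hσ S hS) fun y hy => ?_, ?_⟩
  · obtain ⟨z, rfl⟩ := QuotientGroup.mk'_surjective S y
    rw [← map_pow]
    exact (QuotientGroup.eq_one_iff _).2 ⟨z, hy, rfl⟩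
  · have e : (QuotientGroup.lift S σ hS).ker.comap (QuotientGroup.mk' S) = σ.ker := by
      ext x; rfl
    have h1 := Subgroup.index_comap_of_surjective ((QuotientGroup.lift S σ hS).ker)
      (QuotientGroup.mk'_surjective S)
    rw [e] at h1
    have h2 := σ.ker.card_mul_index
    have h3 := S.card_mul_index
    have h4 := (QuotientGroup.lift S σ hS).ker.card_mul_index
    have h5 : Nat.card (Γ ⧸ S) = S.index := (Subgroup.index_eq_card S).symm
    have hi : 0 < σ.ker.index := Nat.pos_of_ne_zero σ.ker.index_ne_zero_of_finite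
    refine Nat.eq_of_mul_eq_mul_right hi ?_
    rw [h2, mul_assoc, h1, h4, h5, h3]

theorem two (Δ : Type) [Group Δ] [Finite Δ] (τ : Δ →* Suz) (hτ : Cfsg.IsStemExtension τ)
    (he : ∀ x ∈ τ.ker, x ^ 2 = 1) : Nat.card τ.ker ∣ 2 := by
  obtain ⟨t, ⟨htk, -⟩, hle⟩ := ker_le _ certSuzP2 _ _ _ _ (fun τ h => ⟨pairEv _ τ h⟩) (by decide +kernel)
    okSuzP2 hτ he
  rw [show {r | r ∈ [0]} = ({0} : Set ℕ) by ext; simp, Set.image_singleton,
    ← Subgroup.zpowers_eq_closure] at hle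
  refine (Subgroup.card_dvd_of_le hle).trans ?_
  rw [Nat.card_zpowers]
  exact orderOf_dvd_of_pow_eq_one (he _ (htk _))

theorem three (Δ : Type) [Group Δ] [Finite Δ] (τ : Δ →* Suz) (hτ : Cfsg.IsStemExtension τ)
    (he : ∀ x ∈ τ.ker, x ^ 3 = 1) : Nat.card τ.ker ∣ 3 := by
  obtain ⟨t, ⟨htk, -⟩, hle⟩ := ker_le _ certSuzP3 _ _ _ _
    (fun τ h => ⟨nibEv (m := 3) (by norm_num) (by norm_num) _ τ h⟩) (by decide +kernel) okSuzP3 hτ he
  rw [show {r | r ∈ [4]} = ({4} : Set ℕ) by ext; simp, Set.image_singleton,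
    ← Subgroup.zpowers_eq_closure] at hle
  refine (Subgroup.card_dvd_of_le hle).trans ?_
  rw [Nat.card_zpowers]
  exact orderOf_dvd_of_pow_eq_one (he _ (htk _))

/-- Only cyclic kernels of order dividing 6. -/
theorem bound (Γ : Type) [Group Γ] [Finite Γ] (σ : Γ →* Suz) (hσ : Cfsg.IsStemExtension σ) :
    IsCyclic σ.ker ∧ Nat.card σ.ker ∣ 6 := by
  have h6 := exp_six hσ
  obtain ⟨S2, hS2, m2, d2, hd2, e2⟩ := index_dvd hσ 2 two
  obtain ⟨S3, hS3, m3, d3, hd3, e3⟩ := index_dvd hσ 3 three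
  have hS2' : ∀ x ∈ S2, x ^ 3 = 1 := fun x hx => by
    obtain ⟨y, hy, rfl⟩ := (m2 x).1 hx
    rw [← pow_mul]; exact h6 y hy
  have hS3' : ∀ x ∈ S3, x ^ 2 = 1 := fun x hx => by
    obtain ⟨y, hy, rfl⟩ := (m3 x).1 hx
    rw [← pow_mul]; exact h6 y hy
  have c2 : Nat.Coprime (Nat.card S2) 2 := by
    rw [Nat.coprime_comm, Nat.prime_two.coprime_iff_not_dvd]
    intro h
    have : Fact (Nat.Prime 2) := ⟨Nat.prime_two⟩
    obtain ⟨z, hz⟩ := exists_prime_orderOf_dvd_card' 2 h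
    have := orderOf_dvd_of_pow_eq_one (show z ^ 3 = 1 from Subtype.ext (hS2' z z.2))
    rw [hz] at this
    norm_num at this
  have c3 : Nat.Coprime (Nat.card S3) 3 := by
    rw [Nat.coprime_comm, Nat.prime_three.coprime_iff_not_dvd]
    intro h
    have : Fact (Nat.Prime 3) := ⟨Nat.prime_three⟩
    obtain ⟨z, hz⟩ := exists_prime_orderOf_dvd_card' 3 h
    have := orderOf_dvd_of_pow_eq_one (show z ^ 2 = 1 from Subtype.ext (hS3' z z.2))
    rw [hz] at this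
    norm_num at this
  have h23 : Nat.card S2 ∣ 3 := by
    refine (Nat.Coprime.dvd_of_dvd_mul_left ?_ (e3 ▸ Subgroup.card_dvd_of_le hS2)).trans hd3
    refine Nat.coprime_of_dvd fun q hq a b => ?_
    have : Fact q.Prime := ⟨hq⟩
    obtain ⟨z, hz⟩ := exists_prime_orderOf_dvd_card' q a
    obtain ⟨z', hz'⟩ := exists_prime_orderOf_dvd_card' q b
    have h1 := orderOf_dvd_of_pow_eq_one (show z ^ 3 = 1 from Subtype.ext (hS2' z z.2))
    have h2 := orderOf_dvd_of_pow_eq_one (show z' ^ 2 = 1 from Subtype.ext (hS3' z' z'.2))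
    rw [hz] at h1
    rw [hz'] at h2
    have := (Nat.prime_dvd_prime_iff_eq hq Nat.prime_three).1 h1
    have := (Nat.prime_dvd_prime_iff_eq hq Nat.prime_two).1 h2
    omega
  have hdvd : Nat.card σ.ker ∣ 6 := by
    rw [← e2, show (6 : ℕ) = 3 * 2 from rfl]
    exact Nat.mul_dvd_mul h23 hd2
  refine ⟨?_, hdvd⟩
  let _ : CommGroup σ.ker :=
    { (inferInstance : Group σ.ker) with
      mul_comm := fun a b => Subtype.ext (Subgroup.mem_center_iff.mp (hσ.2.1 b.2) a) }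
  refine IsCyclic.of_exponent_eq_card (Nat.dvd_antisymm Group.exponent_dvd_nat_card ?_)
  rw [Nat.dvd_iff_prime_pow_dvd_dvd]
  intro p k hp hk
  rcases Nat.eq_zero_or_pos k with rfl | hk0
  · simp
  have hp6 := hk.trans hdvd
  have : k = 1 := by
    by_contra hne
    have h4 : p * p ∣ 6 := ((pow_two p).symm ▸ pow_dvd_pow p (by omega : 2 ≤ k)).trans hp6
    have := Nat.le_of_dvd (by norm_num) h4
    have : p ≤ 2 := by nlinarith [hp.two_le]
    have : p = 2 := le_antisymm this hp.two_le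
    subst this
    norm_num at h4
  subst this
  rw [pow_one] at hk ⊢
  have : Fact p.Prime := ⟨hp⟩
  obtain ⟨z, hz⟩ := exists_prime_orderOf_dvd_card' p hk
  exact hz ▸ Monoid.order_dvd_exponent z

/-- The Schur multiplier is cyclic of order 6. -/
theorem multiplier : Cfsg.HasCyclicSchurMultiplier Suz 6 := by
  have : Finite Suz := CfsgLib.InvChar.SporSuz.card_le.1
  obtain ⟨Γ, _, _, τ, hτ, h6⟩ := exists_stem_six
  exact CfsgLib.Schur.hasCyclicSchurMultiplier_of_bound' hτ (Nat.dvd_antisymm (bound Γ τ hτ).2 h6)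
    fun Γ _ _ σ hσ => bound Γ σ hσ

end CfsgLib.KnownA.SchurCert.SuzCert
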