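import Cfsg.Agent.Lib.KnownA.SuzSchur.Parts
import Cfsg.Agent.Lib.KnownA.SuzSchur.P2D

/-!
Checks on the states for the prime 2.
-/

set_option autoImplicit false
set_option maxRecDepth 100000
set_option Elab.async false

namespace CfsgLib.KnownA.SchurCert.SuzCert

open CfsgLib.KnownA.SchurCert CfsgLib.KnownA.SchurCert.Co3Cert

theorem edgesSuzP2_0 : edgesPart (pairOps 91) certSuzP2 0 256 = true := by decide +kernel

theorem injSuzP2_0 : injPartS certSuzP2 rowsSuzP2 0 256 = true := by decide +kernel

theorem edgesSuzP2_1 : edgesPart (pairOps 91) certSuzP2 256 256 = true := by decide +kernel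

theorem injSuzP2_1 : injPartS certSuzP2 rowsSuzP2 256 256 = true := by decide +kernel

theorem edgesSuzP2_2 : edgesPart (pairOps 91) certSuzP2 512 256 = true := by decide +kernel

theorem injSuzP2_2 : injPartS certSuzP2 rowsSuzP2 512 256 = true := by decide +kernel

theorem edgesSuzP2_3 : edgesPart (pairOps 91) certSuzP2 768 256 = true := by decide +kernel

theorem injSuzP2_3 : injPartS certSuzP2 rowsSuzP2 768 256 = true := by decide +kernel

theorem edgesSuzP2_4 : edgesPart (pairOps 91) certSuzP2 1024 256 = true := by decide +kernel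

theorem injSuzP2_4 : injPartS certSuzP2 rowsSuzP2 1024 256 = true := by decide +kernel

theorem edgesSuzP2_5 : edgesPart (pairOps 91) certSuzP2 1280 256 = true := by decide +kernel

theorem injSuzP2_5 : injPartS certSuzP2 rowsSuzP2 1280 256 = true := by decide +kernel

theorem edgesSuzP2_6 : edgesPart (pairOps 91) certSuzP2 1536 256 = true := by decide +kernel

theorem injSuzP2_6 : injPartS certSuzP2 rowsSuzP2 1536 256 = true := by decide +kernel

theorem edgesSuzP2_7 : edgesPart (pairOps 91) certSuzP2 1792 256 = true := by decide +kernel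

theorem injSuzP2_7 : injPartS certSuzP2 rowsSuzP2 1792 256 = true := by decide +kernel

end CfsgLib.KnownA.SchurCert.SuzCert
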