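import Cfsg.Agent.Lib.KnownA.SuzSchur.Parts
import Cfsg.Agent.Lib.KnownA.SuzSchur.P2D

/-!
Checks on the states for the prime 2.
-/

set_option autoImplicit false
set_option maxRecDepth 100000
set_option Elab.async false

namespace CfsgLib.KnownA.SchurCert.SuzCert

open CfsgLib.KnownA.SchurCert CfsgLib.KnownA.SchurCert.Co3Cert

theorem edgesSuzP2_8 : edgesPart (pairOps 91) certSuzP2 2048 256 = true := by decide +kernel

theorem injSuzP2_8 : injPartS certSuzP2 rowsSuzP2 2048 256 = true := by decide +kernel

theorem edgesSuzP2_9 : edgesPart (pairOps 91) certSuzP2 2304 256 = true := by decide +kernel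

theorem injSuzP2_9 : injPartS certSuzP2 rowsSuzP2 2304 256 = true := by decide +kernel

theorem edgesSuzP2_10 : edgesPart (pairOps 91) certSuzP2 2560 256 = true := by decide +kernel

theorem injSuzP2_10 : injPartS certSuzP2 rowsSuzP2 2560 256 = true := by decide +kernel

theorem edgesSuzP2_11 : edgesPart (pairOps 91) certSuzP2 2816 256 = true := by decide +kernel

theorem injSuzP2_11 : injPartS certSuzP2 rowsSuzP2 2816 256 = true := by decide +kernel

theorem edgesSuzP2_12 : edgesPart (pairOps 91) certSuzP2 3072 256 = true := by decide +kernel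

theorem injSuzP2_12 : injPartS certSuzP2 rowsSuzP2 3072 256 = true := by decide +kernel

theorem edgesSuzP2_13 : edgesPart (pairOps 91) certSuzP2 3328 256 = true := by decide +kernel

theorem injSuzP2_13 : injPartS certSuzP2 rowsSuzP2 3328 256 = true := by decide +kernel

theorem edgesSuzP2_14 : edgesPart (pairOps 91) certSuzP2 3584 256 = true := by decide +kernel

theorem injSuzP2_14 : injPartS certSuzP2 rowsSuzP2 3584 256 = true := by decide +kernel

theorem edgesSuzP2_15 : edgesPart (pairOps 91) certSuzP2 3840 256 = true := by decide +kernel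

theorem injSuzP2_15 : injPartS certSuzP2 rowsSuzP2 3840 256 = true := by decide +kernel

end CfsgLib.KnownA.SchurCert.SuzCert
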