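import Cfsg.Agent.Lib.KnownA.SuzSchur.Parts
import Cfsg.Agent.Lib.KnownA.SuzSchur.P2D

/-!
Checks on the states for the prime 2.
-/

set_option autoImplicit false
set_option maxRecDepth 100000
set_option Elab.async false

namespace CfsgLib.KnownA.SchurCert.SuzCert

open CfsgLib.KnownA.SchurCert CfsgLib.KnownA.SchurCert.Co3Cert

theorem edgesSuzP2_16 : edgesPart (pairOps 91) certSuzP2 4096 256 = true := by decide +kernel

theorem injSuzP2_16 : injPartS certSuzP2 rowsSuzP2 4096 256 = true := by decide +kernel

theorem edgesSuzP2_17 : edgesPart (pairOps 91) certSuzP2 4352 256 = true := by decide +kernel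

theorem injSuzP2_17 : injPartS certSuzP2 rowsSuzP2 4352 256 = true := by decide +kernel

theorem edgesSuzP2_18 : edgesPart (pairOps 91) certSuzP2 4608 256 = true := by decide +kernel

theorem injSuzP2_18 : injPartS certSuzP2 rowsSuzP2 4608 256 = true := by decide +kernel

theorem edgesSuzP2_19 : edgesPart (pairOps 91) certSuzP2 4864 256 = true := by decide +kernel

theorem injSuzP2_19 : injPartS certSuzP2 rowsSuzP2 4864 256 = true := by decide +kernel

theorem edgesSuzP2_20 : edgesPart (pairOps 91) certSuzP2 5120 256 = true := by decide +kernel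

theorem injSuzP2_20 : injPartS certSuzP2 rowsSuzP2 5120 256 = true := by decide +kernel

theorem edgesSuzP2_21 : edgesPart (pairOps 91) certSuzP2 5376 256 = true := by decide +kernel

theorem injSuzP2_21 : injPartS certSuzP2 rowsSuzP2 5376 256 = true := by decide +kernel

theorem edgesSuzP2_22 : edgesPart (pairOps 91) certSuzP2 5632 256 = true := by decide +kernel

theorem injSuzP2_22 : injPartS certSuzP2 rowsSuzP2 5632 256 = true := by decide +kernel

theorem edgesSuzP2_23 : edgesPart (pairOps 91) certSuzP2 5888 256 = true := by decide +kernel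

theorem injSuzP2_23 : injPartS certSuzP2 rowsSuzP2 5888 256 = true := by decide +kernel

end CfsgLib.KnownA.SchurCert.SuzCert
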