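import Cfsg.Agent.Lib.KnownA.SuzSchur.Parts
import Cfsg.Agent.Lib.KnownA.SuzSchur.P2D

/-!
Checks on the states for the prime 2.
-/

set_option autoImplicit false
set_option maxRecDepth 100000
set_option Elab.async false

namespace CfsgLib.KnownA.SchurCert.SuzCert

open CfsgLib.KnownA.SchurCert CfsgLib.KnownA.SchurCert.Co3Cert

theorem edgesSuzP2_24 : edgesPart (pairOps 91) certSuzP2 6144 256 = true := by decide +kernel

theorem injSuzP2_24 : injPartS certSuzP2 rowsSuzP2 6144 256 = true := by decide +kernel

theorem edgesSuzP2_25 : edgesPart (pairOps 91) certSuzP2 6400 256 = true := by decide +kernel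

theorem injSuzP2_25 : injPartS certSuzP2 rowsSuzP2 6400 256 = true := by decide +kernel

theorem edgesSuzP2_26 : edgesPart (pairOps 91) certSuzP2 6656 256 = true := by decide +kernel

theorem injSuzP2_26 : injPartS certSuzP2 rowsSuzP2 6656 256 = true := by decide +kernel

theorem edgesSuzP2_27 : edgesPart (pairOps 91) certSuzP2 6912 256 = true := by decide +kernel

theorem injSuzP2_27 : injPartS certSuzP2 rowsSuzP2 6912 256 = true := by decide +kernel

theorem edgesSuzP2_28 : edgesPart (pairOps 91) certSuzP2 7168 256 = true := by decide +kernel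

theorem injSuzP2_28 : injPartS certSuzP2 rowsSuzP2 7168 256 = true := by decide +kernel

theorem edgesSuzP2_29 : edgesPart (pairOps 91) certSuzP2 7424 256 = true := by decide +kernel

theorem injSuzP2_29 : injPartS certSuzP2 rowsSuzP2 7424 256 = true := by decide +kernel

theorem edgesSuzP2_30 : edgesPart (pairOps 91) certSuzP2 7680 256 = true := by decide +kernel

theorem injSuzP2_30 : injPartS certSuzP2 rowsSuzP2 7680 256 = true := by decide +kernel

theorem edgesSuzP2_31 : edgesPart (pairOps 91) certSuzP2 7936 256 = true := by decide +kernel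

theorem injSuzP2_31 : injPartS certSuzP2 rowsSuzP2 7936 256 = true := by decide +kernel

end CfsgLib.KnownA.SchurCert.SuzCert
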