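import Cfsg.Agent.Lib.KnownA.SuzSchur.P2R
import Cfsg.Agent.Lib.KnownA.SuzSchur.P2E0
import Cfsg.Agent.Lib.KnownA.SuzSchur.P2E1
import Cfsg.Agent.Lib.KnownA.SuzSchur.P2E2
import Cfsg.Agent.Lib.KnownA.SuzSchur.P2E3
import Mathlib.Tactic.IntervalCases

/-!
The certificate for the prime 2 and the multiplier of the Suzuki group.
-/

set_option autoImplicit false
set_option maxRecDepth 100000
set_option Elab.async false

namespace CfsgLib.KnownA.SchurCert.SuzCert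

open CfsgLib.KnownA.SchurCert CfsgLib.KnownA.SchurCert.Co3Cert

theorem okSuzP2 : allS (pairOps 91) certSuzP2 [0] baseSuz wordsSuzP2 rowsSuzP2 = true :=
  allS_of_parts (pairOps 91) certSuzP2 [0] wordsSuzP2 rowsSuzP2 256 32 (by norm_num) rfl letSuzP2 presSuzP2 consSuzP2 finalSuzP2 perSuzP2
    (fun j hj => by interval_cases j; exacts [edgesSuzP2_0, edgesSuzP2_1, edgesSuzP2_2, edgesSuzP2_3, edgesSuzP2_4, edgesSuzP2_5, edgesSuzP2_6, edgesSuzP2_7, edgesSuzP2_8, edgesSuzP2_9, edgesSuzP2_10, edgesSuzP2_11, edgesSuzP2_12, edgesSuzP2_13, edgesSuzP2_14, edgesSuzP2_15, edgesSuzP2_16, edgesSuzP2_17, edgesSuzP2_18, edgesSuzP2_19, edgesSuzP2_20, edgesSuzP2_21, edgesSuzP2_22, edgesSuzP2_23, edgesSuzP2_24, edgesSuzP2_25, edgesSuzP2_26, edgesSuzP2_27, edgesSuzP2_28, edgesSuzP2_29, edgesSuzP2_30, edgesSuzP2_31])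
    (fun j hj => by interval_cases j; exacts [injSuzP2_0, injSuzP2_1, injSuzP2_2, injSuzP2_3, injSuzP2_4, injSuzP2_5, injSuzP2_6, injSuzP2_7, injSuzP2_8, injSuzP2_9, injSuzP2_10, injSuzP2_11, injSuzP2_12, injSuzP2_13, injSuzP2_14, injSuzP2_15, injSuzP2_16, injSuzP2_17, injSuzP2_18, injSuzP2_19, injSuzP2_20, injSuzP2_21, injSuzP2_22, injSuzP2_23, injSuzP2_24, injSuzP2_25, injSuzP2_26, injSuzP2_27, injSuzP2_28, injSuzP2_29, injSuzP2_30, injSuzP2_31])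

end CfsgLib.KnownA.SchurCert.SuzCert
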