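import Cfsg.Agent.Lib.KnownA.SuzSchur.Base

/-!
The checks on a certificate from their parts.
-/

set_option autoImplicit false

namespace CfsgLib.KnownA.SchurCert.SuzCert

open CfsgLib.KnownA.SchurCert CfsgLib.KnownA.SchurCert.Co3Cert

/-- The checks over a range of states that only the first one represents `1`. -/
def injPartS {V : Type} (C : Cert V) (Rs : List (List ℕ)) (lo len : ℕ) : Bool :=
  (List.range' lo len).all fun s => Nat.beq s 0 || !eqvS Rs (C.word s) []

theorem allS_of_parts {V : Type} (o : Ops V) (C : Cert V) (extras : List ℕ) (Ws Rs : List (List ℕ))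
    (w k : ℕ) (hw : 0 < w) (hN : C.N = w * k) (hl : letChk baseSuz Ws Rs = true)
    (h1 : C.presOK (eqvS Rs) = true) (h4 : C.consOK (eqvS Rs) = true)
    (h5 : C.finalOK o extras = true) (hp : perPart C = true)
    (he : ∀ j < k, edgesPart o C (w * j) w = true)
    (hi : ∀ j < k, injPartS C Rs (w * j) w = true) : allS o C extras baseSuz Ws Rs = true := by
  have e1 : C.edgesOK o = true := by
    rw [Cert.edgesOK, List.all_eq_true]
    intro s hs
    rw [List.mem_range, hN] at hs
    obtain ⟨j, hj, hsj⟩ := exists_part hw hs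
    exact List.all_eq_true.1 (he j hj) s hsj
  have e2 : C.injOK (eqvS Rs) = true := by
    rw [Cert.injOK, Bool.and_eq_true]
    refine ⟨hp, List.all_eq_true.2 fun s hs => ?_⟩
    rw [List.mem_range, hN] at hs
    obtain ⟨j, hj, hsj⟩ := exists_part hw hs
    exact List.all_eq_true.1 (hi j hj) s hsj
  simp only [allS, hl, h1, h4, h5, e1, e2, Bool.and_self]

end CfsgLib.KnownA.SchurCert.SuzCert
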