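import Cfsg.Agent.Lib.KnownA.SuzSchur.Parts

/-!
The check on the orders of the generators, one generator at a time.
-/

set_option autoImplicit false

namespace CfsgLib.KnownA.SchurCert.SuzCert

open CfsgLib.KnownA.SchurCert CfsgLib.KnownA.SchurCert.Co3Cert

/-- The check on the order of one generator. -/
def perOne {V : Type} (C : Cert V) (i : ℕ) : Bool :=
  Nat.blt 0 (C.per.getD i 0) &&
    (List.range C.N).all fun s => Nat.beq (C.walk s (List.replicate (C.per.getD i 0) i)) s

theorem perPart_of_one {V : Type} (C : Cert V) (n : ℕ) (hn : C.n = n)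
    (h : ∀ i < n, perOne C i = true) : perPart C = true := by
  rw [perPart, List.all_eq_true]
  intro i hi
  rw [List.mem_range, hn] at hi
  exact h i hi

/-- The checks on the tables of the letters other than the words. -/
def letHead (Bs Ws Rs : List (List ℕ)) : Bool :=
  baseChk Bs && Nat.beq Ws.length Rs.length && Rs.all smallR &&
    ((Ws.all fun w => w.all fun x => Nat.blt x 7))

/-- The check on the word of one letter. -/
def letOne (Bs Ws Rs : List (List ℕ)) (k : ℕ) : Bool :=
  eqS Rs Bs [k] (Ws.getD k [])

theorem letChk_of_one (Bs Ws Rs : List (List ℕ)) (n : ℕ) (hn : Rs.length = n)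
    (hh : letHead Bs Ws Rs = true) (h : ∀ k < n, letOne Bs Ws Rs k = true) :
    letChk Bs Ws Rs = true := by
  rw [letHead] at hh
  rw [letChk, hh, Bool.true_and, List.all_eq_true]
  intro k hk
  rw [List.mem_range, hn] at hk
  exact h k hk

end CfsgLib.KnownA.SchurCert.SuzCert
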