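import Cfsg.Agent.Lib.KnownA.SuzSchur.T0
import Cfsg.Agent.Lib.KnownA.SuzSchur.T1
import Cfsg.Agent.Lib.KnownA.SuzSchur.T2
import Cfsg.Agent.Lib.KnownA.SuzSchur.T3

/-!
Table of a Sylow 2-subgroup of the Suzuki group.
-/

set_option autoImplicit false
set_option maxRecDepth 100000
set_option Elab.async false

namespace CfsgLib.KnownA.SchurCert.SuzCert

open CfsgLib.KnownA.SchurCert CfsgLib.KnownA.SchurCert.Co3Cert

/-- Table. -/
def tblSuzT : Trie :=
  (.node (.node (.node (.node (.node tblSuzTT0 tblSuzTT16) (.node tblSuzTT8 tblSuzTT24)) (.node (.node tblSuzTT4 tblSuzTT20) (.node tblSuzTT12 tblSuzTT28))) (.node (.node (.node tblSuzTT2 tblSuzTT18) (.node tblSuzTT10 tblSuzTT26)) (.node (.node tblSuzTT6 tblSuzTT22) (.node tblSuzTT14 tblSuzTT30)))) (.node (.node (.node (.node tblSuzTT1 tblSuzTT17) (.node tblSuzTT9 tblSuzTT25)) (.node (.node tblSuzTT5 tblSuzTT21) (.node tblSuzTT13 tblSuzTT29))) (.node (.node (.node tblSuzTT3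 tblSuzTT19) (.node tblSuzTT11 tblSuzTT27)) (.node (.node tblSuzTT7 tblSuzTT23) (.node tblSuzTT15 tblSuzTT31)))))

end CfsgLib.KnownA.SchurCert.SuzCert
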